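import Mathlib.RingTheory.MvPolynomial.Homogeneous
import Mathlib.RingTheory.MvPolynomial.Ideal
import Mathlib.RingTheory.Polynomial.UniqueFactorization
import Mathlib.Algebra.Polynomial.RingDivision

/-!
# Factors of homogeneous polynomials are homogeneous

* `isHomogeneous_of_mul`
* `exists_irreducible`: a prime ideal containing a nonzero homogeneous polynomial contains an irreducible homogeneous
  polynomial.
-/

set_option autoImplicit false
universe u

open MvPolynomial
open scoped Polynomial

namespace K945.HomFac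

variable {σ : Type*} {k : Type u} [Field k]

/-- `T_j ↦ T_j t`. -/
noncomputable def dl : MvPolynomial σ k →+* (MvPolynomial σ k)[X] :=
  eval₂Hom (Polynomial.C.comp C) (fun j => Polynomial.C (MvPolynomial.X j) * Polynomial.X)

theorem dl_monomial (s : σ →₀ ℕ) (c : k) :
    dl (monomial s c) = Polynomial.C (monomial s c) * Polynomial.X ^ s.degree := by
  rw [dl, coe_eval₂Hom, eval₂_monomial, monomial_eq, map_mul, Finsupp.prod, Finsupp.prod]
  rw [RingHom.comp_apply, mul_assoc]
  congr 1
  have h1 : ∀ j ∈ s.support, (Polynomial.C (MvPolynomial.X j) * Polynomial.X : (MvPolynomial σ k)[X]) ^ s j =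
      Polynomial.C (MvPolynomial.X j ^ s j) * Polynomial.X ^ s j := by
    intro j _
    rw [mul_pow, ← Polynomial.C_pow]
  rw [Finset.prod_congr rfl h1, Finset.prod_mul_distrib, ← map_prod, Finset.prod_pow_eq_pow_sum]
  rfl

theorem dl_homog {D : ℕ} {p : MvPolynomial σ k} (hp : p.IsHomogeneous D) :
    dl p = Polynomial.C p * Polynomial.X ^ D := by
  rw [p.as_sum, map_sum, map_sum, Finset.sum_mul]
  refine Finset.sum_congr rfl fun s hs => ?_
  rw [dl_monomial]
  congr 2
  have := hp (mem_support_iff.1 hs)
  rw [← this, Finsupp.weight_apply, Finsupp.degree_apply, Finsupp.sum]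
  simp

theorem dl_coeff (p : MvPolynomial σ k) (D : ℕ) :
    (dl p).coeff D = homogeneousComponent D p := by
  have h1 : p = ∑ i ∈ Finset.range (max p.totalDegree D + 1), homogeneousComponent i p := by
    conv_lhs => rw [← sum_homogeneousComponent p]
    refine Finset.sum_subset ?_ ?_
    · intro i hi
      rw [Finset.mem_range] at hi ⊢
      omega
    · intro i _ hi
      rw [Finset.mem_range, not_lt] at hi
      exact homogeneousComponent_eq_zero _ _ (by omega)
  conv_lhs => rw [h1, map_sum, Polynomial.finsetSum_coeff]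
  rw [Finset.sum_eq_single D]
  · rw [dl_homog (homogeneousComponent_isHomogeneous D p), Polynomial.coeff_C_mul,
      Polynomial.coeff_X_pow_self, mul_one]
  · intro i _ hi
    rw [dl_homog (homogeneousComponent_isHomogeneous i p), Polynomial.coeff_C_mul,
      Polynomial.coeff_X_pow, if_neg hi.symm, mul_zero]
  · intro h
    exfalso
    apply h
    rw [Finset.mem_range]
    omega

theorem eval_dl (x : MvPolynomial σ k) : (dl x).eval 1 = x := by
  have h : (Polynomial.evalRingHom (1 : MvPolynomial σ k)).comp dl = RingHom.id _ := by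
    apply MvPolynomial.ringHom_ext
    · intro c
      simp [dl]
    · intro j
      simp [dl]
  exact congr($h x)

theorem dl_ne_zero {x : MvPolynomial σ k} (hx : x ≠ 0) : dl x ≠ 0 := fun h => hx (by
  rw [← eval_dl x, h, Polynomial.eval_zero])

/-- A polynomial with `natDegree ≤ natTrailingDegree` is a monomial. -/
theorem isHomogeneous_of_le {p : MvPolynomial σ k} (hp : p ≠ 0)
    (h : (dl p).natDegree ≤ (dl p).natTrailingDegree) : p.IsHomogeneous (dl p).natDegree := by
  have h1 : dl p = Polynomial.C ((dl p).coeff (dl p).natDegree) * Polynomial.X ^ (dl p).natDegree := by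
    ext1 i
    rw [Polynomial.coeff_C_mul, Polynomial.coeff_X_pow]
    split_ifs with hi
    · rw [hi, mul_one]
    · rw [mul_zero]
      rcases lt_or_gt_of_ne hi with h2 | h2
      · exact Polynomial.coeff_eq_zero_of_lt_natTrailingDegree (h2.trans_le h)
      · exact Polynomial.coeff_eq_zero_of_natDegree_lt h2
  have h2 := congrArg (Polynomial.eval 1) h1
  rw [eval_dl, Polynomial.eval_mul, Polynomial.eval_C, Polynomial.eval_pow, Polynomial.eval_X, one_pow,
    mul_one, dl_coeff] at h2
  rw [h2]
  have h3 : (dl p).natDegree = (dl (homogeneousComponent (dl p).natDegree p)).natDegree := by rw [← h2]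
  rw [← h3]
  exact homogeneousComponent_isHomogeneous _ _

theorem isHomogeneous_of_mul {p q : MvPolynomial σ k} {n : ℕ} (h : (p * q).IsHomogeneous n) (h0 : p * q ≠ 0) :
    ∃ m l : ℕ, p.IsHomogeneous m ∧ q.IsHomogeneous l ∧ m + l = n := by
  have hp : p ≠ 0 := left_ne_zero_of_mul h0
  have hq : q ≠ 0 := right_ne_zero_of_mul h0
  have h1 := dl_homog h
  rw [map_mul] at h1
  have h2 : (dl p).natDegree + (dl q).natDegree = n := by
    rw [← Polynomial.natDegree_mul (dl_ne_zero hp) (dl_ne_zero hq), h1, Polynomial.natDegree_C_mul_X_pow n _ h0]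
  have h3 : (dl p).natTrailingDegree + (dl q).natTrailingDegree = n := by
    rw [← Polynomial.natTrailingDegree_mul (dl_ne_zero hp) (dl_ne_zero hq), h1,
      Polynomial.natTrailingDegree_mul (Polynomial.C_ne_zero.2 h0) (pow_ne_zero _ Polynomial.X_ne_zero),
      Polynomial.natTrailingDegree_C, Polynomial.natTrailingDegree_X_pow, zero_add]
  have h4 := Polynomial.natTrailingDegree_le_natDegree (dl p)
  have h5 := Polynomial.natTrailingDegree_le_natDegree (dl q)
  exact ⟨_, _, isHomogeneous_of_le hp (by omega), isHomogeneous_of_le hq (by omega), h2⟩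

/-- A homogeneous polynomial of degree zero is constant. -/
theorem isUnit_of_isHomogeneous_zero {p : MvPolynomial σ k} (hp : p.IsHomogeneous 0) (h0 : p ≠ 0) : IsUnit p := by
  have h1 : p = C (coeff 0 p) := totalDegree_eq_zero_iff_eq_C.1 (by
    have := hp.totalDegree h0
    exact this)
  rw [h1]
  refine (IsUnit.mk0 _ ?_).map C
  intro h2
  rw [h2, C_0] at h1
  exact h0 h1

/-- A prime ideal containing a nonzero homogeneous polynomial contains an irreducible homogeneous polynomial. -/
theorem exists_irreducible (I : Ideal (MvPolynomial σ k)) [I.IsPrime] :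
    ∀ (n : ℕ) (p : MvPolynomial σ k), p.IsHomogeneous n → p ≠ 0 → p ∈ I →
      ∃ (m : ℕ) (q : MvPolynomial σ k), q.IsHomogeneous m ∧ Irreducible q ∧ q ∈ I ∧ q ∣ p := by
  intro n
  induction n using Nat.strong_induction_on with
  | _ n ih =>
    intro p hp h0 hpI
    by_cases hirr : Irreducible p
    · exact ⟨n, p, hp, hirr, hpI, dvd_rfl⟩
    have hu : ¬ IsUnit p := fun hu => (inferInstance : I.IsPrime).ne_top (I.eq_top_of_isUnit_mem hpI hu)
    rw [irreducible_iff] at hirr
    push Not at hirr
    obtain ⟨a, b, hab, ha, hb⟩ := hirr hu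
    rw [hab] at hp h0
    obtain ⟨m, l, hm, hl, hml⟩ := isHomogeneous_of_mul hp h0
    have hm0 : m ≠ 0 := by
      rintro rfl
      exact ha (isUnit_of_isHomogeneous_zero hm (left_ne_zero_of_mul h0))
    have hl0 : l ≠ 0 := by
      rintro rfl
      exact hb (isUnit_of_isHomogeneous_zero hl (right_ne_zero_of_mul h0))
    rw [hab] at hpI
    rcases (inferInstance : I.IsPrime).mem_or_mem hpI with h | h
    · obtain ⟨m', q, hq, hqi, hqI, hqa⟩ := ih m (by omega) a hm (left_ne_zero_of_mul h0) h
      exact ⟨m', q, hq, hqi, hqI, hab ▸ hqa.mul_right b⟩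
    · obtain ⟨m', q, hq, hqi, hqI, hqa⟩ := ih l (by omega) b hl (right_ne_zero_of_mul h0) h
      exact ⟨m', q, hq, hqi, hqI, hab ▸ hqa.mul_left a⟩

end K945.HomFac
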