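import Groth.Agent.Lefpen.H397.ConePt
import Groth.Agent.STCI.K945.HomFac

/-!
# Dehomogenization and divisibility
-/

set_option autoImplicit false
universe u

open MvPolynomial

namespace K945.Dehom

open Groth.Agent.Sga5

variable {k : Type u} [Field k] {r : ℕ}

theorem aM_injective (j : Fin (r + 1)) : Function.Injective (ProjChart.aM r k j) := by
  refine IsLocalization.injective _ (M := .powers (X j : MvPolynomial (Fin (r + 1)) k)) ?_
  exact powers_le_nonZeroDivisors_of_noZeroDivisors (X_ne_zero j)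

theorem dehom_inj (j : Fin (r + 1)) {D : ℕ} {P Q : MvPolynomial (Fin (r + 1)) k} (hP : P.IsHomogeneous D)
    (hQ : Q.IsHomogeneous D) (h : ProjChart.dehom r k j P = ProjChart.dehom r k j Q) : P = Q := by
  apply aM_injective j
  rw [← ProjChart.val_ofPoly_dehom r k j D P hP, ← ProjChart.val_ofPoly_dehom r k j D Q hQ, h]

theorem dvd_of_dehom_dvd (j : Fin (r + 1)) {D E : ℕ} {F P : MvPolynomial (Fin (r + 1)) k} (hF : F.IsHomogeneous D)
    (hFi : Prime F) (hnd : ¬ F ∣ X j) (hP : P.IsHomogeneous E)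
    (h : ProjChart.dehom r k j F ∣ ProjChart.dehom r k j P) : F ∣ P := by
  obtain ⟨q, hq⟩ := h
  obtain ⟨E', Q, hQ, rfl⟩ := Groth.Agent.Lefpen.H397.ConePt.exists_dehom (k := k) j q
  have h1 : X j ^ (D + E') * P = X j ^ E * (F * Q) := by
    refine dehom_inj j (D := D + E' + E) ?_ ?_ ?_
    · have := ((isHomogeneous_X k j).pow (D + E')).mul hP
      rwa [one_mul] at this
    · have := ((isHomogeneous_X k j).pow E).mul (hF.mul hQ)
      rwa [one_mul, add_comm E] at this
    · rw [map_mul, map_mul, map_mul, map_pow, map_pow, ProjChart.dehom_X_self, one_pow, one_pow, one_mul, one_mul, hq]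
  have h2 : F ∣ X j ^ (D + E') * P := by
    rw [h1]
    exact (dvd_mul_right F Q).mul_left _
  rcases hFi.dvd_or_dvd h2 with h3 | h3
  · exact absurd (hFi.dvd_of_dvd_pow h3) hnd
  · exact h3

end K945.Dehom
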