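import Groth.Agent.CalgB.AdicRegField
import Groth.Agent.S2498
import Mathlib.RingTheory.Length
import Mathlib.RingTheory.Artinian.Ring

/-!
# Flat formally smooth maps of Artinian local rings preserve the length
-/

set_option autoImplicit false
universe u v

namespace K945.ArtinFS

open IsLocalRing TensorProduct

/-- An Artinian local algebra over a field which is formally smooth is a field. -/
theorem isField_of_formallySmooth (k R : Type u) [Field k] [CommRing R] [IsLocalRing R] [IsArtinianRing R]
    [Algebra k R] [Algebra.FormallySmooth k R] : IsField R := by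
  have hreg : IsRegularLocalRing R := by
    apply Groth.Agent.CalgB.AdicRegField.isRegularLocalRing_of_isAdicFormallySmooth (k := k)
    intro C _ _ J hJ ψ _
    exact Algebra.FormallySmooth.exists_lift (R := k) (A := R) J ⟨2, hJ⟩ ψ
  have h := (IsRegularLocalRing.iff_finrank_cotangentSpace R).mp hreg
  rw [ringKrullDimZero_iff_ringKrullDim_eq_zero.mp inferInstance] at h
  have h0 : Module.finrank (ResidueField R) (CotangentSpace R) = 0 := by exact_mod_cast h
  exact IsLocalRing.finrank_cotangentSpace_eq_zero_iff.mp h0

theorem isLocalHom_algebraMap (A : Type u) (B : Type v) [CommRing A] [CommRing B]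
    [IsLocalRing A] [IsLocalRing B] [IsArtinianRing A] [Algebra A B] : IsLocalHom (algebraMap A B) := by
  constructor
  intro a ha
  by_contra hna
  have hnil : IsNilpotent a := by
    have := IsArtinianRing.isNilpotent_jacobson_bot (R := A)
    have hmem : a ∈ maximalIdeal A := hna
    obtain ⟨n, hn⟩ := this
    rw [IsLocalRing.jacobson_eq_maximalIdeal ⊥ bot_ne_top] at hn
    refine ⟨n, ?_⟩
    have := Ideal.pow_mem_pow hmem n
    rw [hn] at this
    simpa using this
  exact (hnil.map (algebraMap A B)).not_isUnit ha

/-- The maximal ideal of the source generates that of the target. -/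
theorem map_maximalIdeal (A B : Type u) [CommRing A] [CommRing B]
    [IsLocalRing A] [IsLocalRing B] [IsArtinianRing A] [IsArtinianRing B] [Algebra A B]
    [Algebra.FormallySmooth A B] : (maximalIdeal A).map (algebraMap A B) = maximalIdeal B := by
  have hloc := isLocalHom_algebraMap A B
  set I := (maximalIdeal A).map (algebraMap A B) with hI
  have hne : I ≠ ⊤ := (map_maximalIdeal_lt_top (algebraMap A B)).ne
  have : Nontrivial (B ⧸ I) := Ideal.Quotient.nontrivial_iff.mpr hne
  have : IsLocalRing (B ⧸ I) := IsLocalRing.of_surjective' (Ideal.Quotient.mk _) Ideal.Quotient.mk_surjective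
  have : IsArtinianRing (B ⧸ I) := Function.Surjective.isArtinianRing (f := Ideal.Quotient.mk I) Ideal.Quotient.mk_surjective
  -- the fibre is formally smooth over the residue field
  let _ : Field (A ⧸ maximalIdeal A) := Ideal.Quotient.field _
  have hfs : Algebra.FormallySmooth (A ⧸ maximalIdeal A) ((A ⧸ maximalIdeal A) ⊗[A] B) := inferInstance
  have hfs' : Algebra.FormallySmooth (A ⧸ maximalIdeal A) (B ⧸ I) := Algebra.FormallySmooth.of_equiv
    (Algebra.TensorProduct.quotIdealMapEquivQuotTensor B (maximalIdeal A)).symm
  have hf := isField_of_formallySmooth (A ⧸ maximalIdeal A) (B ⧸ I)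
  have : I.IsMaximal := Ideal.Quotient.maximal_of_isField _ hf
  exact IsLocalRing.eq_maximalIdeal this

theorem length_eq (A B : Type u) [CommRing A] [CommRing B]
    [IsLocalRing A] [IsLocalRing B] [IsArtinianRing A] [IsArtinianRing B] [Algebra A B]
    [Module.Flat A B] [Algebra.FormallySmooth A B] :
    Module.length A A = Module.length B B := by
  have hloc := isLocalHom_algebraMap A B
  have hmax := map_maximalIdeal A B
  have hfl : Module.FaithfullyFlat A B := Module.FaithfullyFlat.of_flat_of_isLocalHom
  have hfin : IsFiniteLength B (B ⧸ ((maximalIdeal A).map (algebraMap A B) • (⊤ : Submodule B B))) :=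
    Module.length_ne_top_iff.mp Module.length_ne_top
  have h := Groth.Agent.S2498.result (A := A) (B := B) A B hfin
  rw [(AlgebraTensorModule.rid A B B).length_eq, hmax] at h
  rw [h]
  have hs : Module.length B (B ⧸ (maximalIdeal B • (⊤ : Submodule B B))) = 1 := by
    rw [smul_eq_mul, Ideal.mul_top]
    rw [Module.length_eq_one_iff]
    exact (isSimpleModule_iff_isCoatom).2 (maximalIdeal.isMaximal B).out
  rw [hs, mul_one]

end K945.ArtinFS
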