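import Groth.Agent.STCI.K945.ArtinFS
import Groth.Agent.Flat2H.FSHom
import Groth.Agent.S2315
import Mathlib.AlgebraicGeometry.Morphisms.Flat
import Mathlib.AlgebraicGeometry.Morphisms.UniversallyOpen

/-!
# Formally smooth morphisms are formally smooth on stalks; stalks at generic points
-/

set_option autoImplicit false
universe u

namespace K945.StalkFS

open AlgebraicGeometry CategoryTheory TopologicalSpace

/-- The stalk maps of a formally smooth morphism are formally smooth. -/
theorem formallySmooth_stalkMap {X Y : Scheme.{u}} (f : X ⟶ Y) (H : MoreMor.IsFormallySmoothHom f) (x : X) :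
    (f.stalkMap x).hom.FormallySmooth := by
  obtain ⟨V, hV, hxV, -⟩ := exists_isAffineOpen_mem_and_subset (X := Y) (x := f x) (U := ⊤) trivial
  obtain ⟨U, hU, hxU, hUV⟩ := exists_isAffineOpen_mem_and_subset (X := X) (x := x) (U := f ⁻¹ᵁ V) hxV
  have h := Groth.Agent.Flat2H.FSHom.affLocFS_of_isFormallySmoothHom f H U V hU hV hUV
  algebraize [(f.appLE V U hUV).hom]
  let _ : Algebra Γ(X, U) (X.presheaf.stalk x) := X.presheaf.algebra_section_stalk ⟨x, hxU⟩
  let _ : Algebra Γ(Y, V) (Y.presheaf.stalk (f x)) := Y.presheaf.algebra_section_stalk ⟨f x, hxV⟩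
  have h1 : IsLocalization.AtPrime (X.presheaf.stalk x) (hU.primeIdealOf ⟨x, hxU⟩).asIdeal :=
    hU.isLocalization_stalk ⟨x, hxU⟩
  have h2 : IsLocalization.AtPrime (Y.presheaf.stalk (f x)) (hV.primeIdealOf ⟨f x, hxV⟩).asIdeal :=
    hV.isLocalization_stalk ⟨f x, hxV⟩
  let _ : Algebra (Y.presheaf.stalk (f x)) (X.presheaf.stalk x) := (f.stalkMap x).hom.toAlgebra
  let _ : Algebra Γ(Y, V) (X.presheaf.stalk x) :=
    ((algebraMap Γ(X, U) (X.presheaf.stalk x)).comp (algebraMap Γ(Y, V) Γ(X, U))).toAlgebra
  have t1 : IsScalarTower Γ(Y, V) Γ(X, U) (X.presheaf.stalk x) := IsScalarTower.of_algebraMap_eq' rfl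
  have t2 : IsScalarTower Γ(Y, V) (Y.presheaf.stalk (f x)) (X.presheaf.stalk x) := by
    refine IsScalarTower.of_algebraMap_eq' ?_
    change (X.presheaf.germ U x hxU).hom.comp (f.appLE V U hUV).hom =
      (f.stalkMap x).hom.comp (Y.presheaf.germ V (f x) hxV).hom
    ext a
    simp only [RingHom.coe_comp, Function.comp_apply]
    rw [Scheme.Hom.germ_stalkMap_apply]
    simp only [Scheme.Hom.appLE, CommRingCat.hom_comp, RingHom.coe_comp, Function.comp_apply,
      X.presheaf.germ_res_apply]
  have h3 : Algebra.FormallySmooth Γ(X, U) (X.presheaf.stalk x) :=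
    Algebra.FormallySmooth.of_isLocalization (hU.primeIdealOf ⟨x, hxU⟩).asIdeal.primeCompl
  have h4 : Algebra.FormallySmooth Γ(Y, V) (X.presheaf.stalk x) :=
    Algebra.FormallySmooth.comp Γ(Y, V) Γ(X, U) (X.presheaf.stalk x)
  have h5 : Algebra.FormallySmooth (Y.presheaf.stalk (f x)) (X.presheaf.stalk x) :=
    Algebra.FormallySmooth.localization_base (R := Γ(Y, V)) (hV.primeIdealOf ⟨f x, hxV⟩).asIdeal.primeCompl
  exact h5

/-- A flat morphism of irreducible schemes maps the generic point to the generic point. -/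
theorem map_genericPoint {X Y : Scheme.{u}} (f : X ⟶ Y) [IrreducibleSpace X] [IrreducibleSpace Y] [Flat f] :
    f (genericPoint X) = genericPoint Y := by
  have h : genericPoint Y ⤳ f (genericPoint X) := genericPoint_specializes _
  obtain ⟨z, hz, hz'⟩ := Flat.generalizingMap f h
  have h1 : genericPoint X ⤳ z := genericPoint_specializes _
  have : z = genericPoint X := (h1.antisymm hz).eq.symm
  rw [← hz', this]

theorem length_genericPoint_eq {X' X : Scheme.{u}} (f : X' ⟶ X)
    [IrreducibleSpace ↥X'] [IrreducibleSpace ↥X] [IsNoetherian X'] [IsNoetherian X] [Flat f]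
    (hf : MoreMor.IsFormallySmoothHom f) :
    Module.length (X'.presheaf.stalk (genericPoint X')) (X'.presheaf.stalk (genericPoint X'))
      = Module.length (X.presheaf.stalk (genericPoint X)) (X.presheaf.stalk (genericPoint X)) := by
  have hg := map_genericPoint f
  rw [← hg]
  have hA : IsArtinianRing (X.presheaf.stalk (f (genericPoint X'))) := by
    rw [hg]; exact (Groth.Agent.S2315.result X).2 inferInstance
  have hB : IsArtinianRing (X'.presheaf.stalk (genericPoint X')) := (Groth.Agent.S2315.result X').2 inferInstance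
  let _ : Algebra (X.presheaf.stalk (f (genericPoint X'))) (X'.presheaf.stalk (genericPoint X')) :=
    (f.stalkMap (genericPoint X')).hom.toAlgebra
  have h1 : Algebra.FormallySmooth (X.presheaf.stalk (f (genericPoint X'))) (X'.presheaf.stalk (genericPoint X')) :=
    formallySmooth_stalkMap f hf _
  have h2 : Module.Flat (X.presheaf.stalk (f (genericPoint X'))) (X'.presheaf.stalk (genericPoint X')) :=
    Flat.stalkMap f _
  exact (ArtinFS.length_eq (X.presheaf.stalk (f (genericPoint X'))) (X'.presheaf.stalk (genericPoint X'))).symm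

end K945.StalkFS
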