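import Groth.Agent.Lefpen.H718.ConeCM

/-!
# The affine cone of a complete intersection: Cohen-Macaulay, complete intersection, depth

`S = k[T_0..T_N]`, `A = S/(g_1..g_d)`, `d ≤ ht (g_1..g_d)`. Same results as in `Lefpen.H718.ConeCM` with the
height condition instead of the Jacobian condition.
-/

set_option autoImplicit false
universe u

open MvPolynomial IsLocalRing RingTheory.Sequence

namespace K945.ConeHt

open Groth.Agent.Lefpen.H718.Reg Groth.Agent.Lefpen.H718.ConeCM

variable {k : Type u} [Field k] {N d : ℕ} (g : Fin d → MvPolynomial (Fin (N + 1)) k)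

section

variable (hht : (d : ℕ∞) ≤ (Ideal.span (Set.range g)).height) (q : Ideal (A g)) [hq : q.IsPrime]

include hht

theorem le_height_eqs : ((eqs g q).length : ℕ∞) ≤ (Ideal.ofList (eqs g q)).height := by
  rw [ofList_eqs]
  have h2 : (eqs g q).length = d := by simp [eqs]
  rw [h2]
  exact hht.trans (Groth.Agent.Ega4C.HullCM.height_le_height_map
    (q.comap (Ideal.Quotient.mk (Ideal.span (Set.range g)))).primeCompl _)

theorem depth_eq_ringKrullDim :
    ((LocCoh.depth (Localization.AtPrime q) (Localization.AtPrime q) : ℕ∞) : WithBot ℕ∞) =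
      ringKrullDim (Localization.AtPrime q) := by
  obtain ⟨e⟩ := nonempty_equiv g q
  have hnt := e.injective.nontrivial
  have hloc : IsLocalRing (Localization.AtPrime (q.comap (Ideal.Quotient.mk (Ideal.span (Set.range g)))) ⧸
      Ideal.ofList (eqs g q)) := IsLocalRing.of_surjective' (Ideal.Quotient.mk _) Ideal.Quotient.mk_surjective
  have h1 : ringKrullDim (Localization.AtPrime q) = ringKrullDim (Localization.AtPrime
      (q.comap (Ideal.Quotient.mk (Ideal.span (Set.range g)))) ⧸ Ideal.ofList (eqs g q)) :=
    ringKrullDim_eq_of_ringEquiv e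
  have h2 : LocCoh.depth (Localization.AtPrime q) (Localization.AtPrime q) = LocCoh.depth (Localization.AtPrime
      (q.comap (Ideal.Quotient.mk (Ideal.span (Set.range g)))) ⧸ Ideal.ofList (eqs g q)) (Localization.AtPrime
      (q.comap (Ideal.Quotient.mk (Ideal.span (Set.range g)))) ⧸ Ideal.ofList (eqs g q)) :=
    Groth.Agent.CalgA.DepthSmall.depth_ringEquiv e
  rw [h1, h2]
  exact depth_quot _ (eqs_mem g q) (le_height_eqs g hht q)

theorem depth_eq_height :
    LocCoh.depth (Localization.AtPrime q) (Localization.AtPrime q) = q.height := by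
  have h := (depth_eq_ringKrullDim g hht q).trans
    (IsLocalization.AtPrime.ringKrullDim_eq_height q (Localization.AtPrime q))
  exact_mod_cast h

theorem ringKrullDim_add :
    ringKrullDim (Localization.AtPrime q) + d = ringKrullDim
      (Localization.AtPrime (q.comap (Ideal.Quotient.mk (Ideal.span (Set.range g))))) := by
  obtain ⟨e⟩ := nonempty_equiv g q
  have h := ringKrullDim_add_length_eq_ringKrullDim_of_isRegular _
    (isRegular_of_height _ (eqs_mem g q) (le_height_eqs g hht q))
  have h2 : (eqs g q).length = d := by simp [eqs]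
  rw [h2] at h
  have h1 : ringKrullDim (Localization.AtPrime q) = ringKrullDim (Localization.AtPrime
      (q.comap (Ideal.Quotient.mk (Ideal.span (Set.range g)))) ⧸ Ideal.ofList (eqs g q)) :=
    ringKrullDim_eq_of_ringEquiv e
  rw [h1, h]

theorem isCompleteIntersection_localization : Pi1.IsCompleteIntersection (Localization.AtPrime q) := by
  obtain ⟨e⟩ := nonempty_equiv g q
  have hnt := e.injective.nontrivial
  have hloc : IsLocalRing (Localization.AtPrime (q.comap (Ideal.Quotient.mk (Ideal.span (Set.range g)))) ⧸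
      Ideal.ofList (eqs g q)) := IsLocalRing.of_surjective' (Ideal.Quotient.mk _) Ideal.Quotient.mk_surjective
  have hne : Ideal.ofList (eqs g q) ≠ ⊤ := Ideal.Quotient.nontrivial_iff.1 inferInstance
  have h1 := (Groth.Agent.S2166.result (Ideal.ofList (eqs g q)) hne).2
    ⟨eqs g q, rfl, isRegular_of_height _ (eqs_mem g q) (le_height_eqs g hht q)⟩
  exact Groth.Agent.Ega4dB.CITransport.isCompleteIntersection_of_ringEquiv e.symm h1

theorem height_add : q.height + d = (q.comap (Ideal.Quotient.mk (Ideal.span (Set.range g)))).height := by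
  have h1 := ringKrullDim_add g hht q
  rw [IsLocalization.AtPrime.ringKrullDim_eq_height q (Localization.AtPrime q),
    IsLocalization.AtPrime.ringKrullDim_eq_height
      (q.comap (Ideal.Quotient.mk (Ideal.span (Set.range g)))) (Localization.AtPrime
      (q.comap (Ideal.Quotient.mk (Ideal.span (Set.range g)))))] at h1
  exact_mod_cast h1

end

theorem height_irr (hg : ∀ i, constantCoeff (g i) = 0) (hht : (d : ℕ∞) ≤ (Ideal.span (Set.range g)).height)
    {n : ℕ} (hN : N = n + d) : (irr g).height = (n + 1 : ℕ) := by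
  have hm := isMaximal_irr g hg
  have hp : (irr g).IsPrime := hm.isPrime
  have h1 := height_add g hht (irr g)
  rw [comap_irr g hg, height_span_X] at h1
  have h5 : (irr g).height + (d : ℕ∞) = ((n + 1 : ℕ) : ℕ∞) + d := by
    rw [h1, hN]
    push_cast
    ring
  exact le_antisymm ((ENat.add_le_add_iff_right (ENat.natCast_ne_top d)).1 h5.le)
    ((ENat.add_le_add_iff_right (ENat.natCast_ne_top d)).1 h5.ge)

theorem hasSk_two (hht : (d : ℕ∞) ≤ (Ideal.span (Set.range g)).height) : LocCoh.HasSk 2 (A g) (A g) := by
  rw [Groth.Agent.CalgA.SerreLocal.hasSk_self_iff]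
  intro p hp
  rw [depth_eq_height g hht p]
  exact min_le_right _ _

/-- Serre's criterion for the cone. -/
theorem normal_localization (hht : (d : ℕ∞) ≤ (Ideal.span (Set.range g)).height)
    (hR : LocCoh.HasRk 1 (A g)) (p : Ideal (A g)) [p.IsPrime] :
    IsDomain (Localization.AtPrime p) ∧ IsIntegrallyClosed (Localization.AtPrime p) :=
  (Groth.Agent.S0601.result (A g)).2 ⟨hR, hasSk_two g hht⟩ p

/-- One equation. -/
theorem one_le_height {g : Fin 1 → MvPolynomial (Fin (N + 1)) k} (hg0 : g 0 ≠ 0) :
    ((1 : ℕ) : ℕ∞) ≤ (Ideal.span (Set.range g)).height := by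
  rw [Nat.cast_one, Order.one_le_iff_ne_zero, Ne, Ideal.height_eq_zero_iff_eq_bot, Ideal.span_eq_bot]
  intro h
  exact hg0 (h (g 0) ⟨0, rfl⟩)

end K945.ConeHt
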