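import Groth.Agent.Lefpen.H397.ConeField
import Groth.Agent.STCI.K945.ConeHt
import Groth.Agent.Ega2.Normal
import Groth.Agent.CalgA.SerreLocal
import Mathlib.RingTheory.Polynomial.IsIntegral

/-!
# Away from the origin the cone is normal over a normal scheme

`Y = V(G) ⊆ P^N_k` with cone ring `A` a domain. If `Γ(Y, D_+(T_j))` is integrally closed then so is `A_q` for every
prime `q` not containing `T_j`.
-/

set_option autoImplicit false
set_option linter.unusedSectionVars false
universe u

open CategoryTheory AlgebraicGeometry Limits TopologicalSpace Opposite MvPolynomial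

namespace K945.ConeNormal

open LefPen Groth.Agent.Lefpen.H705.ChartPoly Groth.Agent.Lefpen.H705.HypIdeal
open Groth.Agent.Lefpen.H718.ConeCM Groth.Agent.Lefpen.H718.Grade Groth.Agent.Lefpen.H718.Chart
open Groth.Agent.Sga5 Groth.Agent.Lefpen.H397.ConePt Groth.Agent.Lefpen.H397.ConeField

variable {k : Type u} [Field k] {N d : ℕ} {a : Fin d → ℕ} (G : ∀ j : Fin d, Form N k (a j))

section Lam

variable (j : Fin (N + 1))

/-- `T_i ↦ (T_i / T_j) X`. -/
noncomputable def lamS : MvPolynomial (Fin (N + 1)) k →+* Polynomial Γ(Y G, ychart G j) :=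
  eval₂Hom (Polynomial.C.comp ((toY G j).comp C)) (fun i => Polynomial.C (toY G j (ProjChart.dehom N k j (X i))) * Polynomial.X)

theorem lamS_monomial (s : Fin (N + 1) →₀ ℕ) (c : k) :
    lamS G j (monomial s c) = Polynomial.C (toY G j (ProjChart.dehom N k j (monomial s c))) * Polynomial.X ^ s.degree := by
  rw [lamS, coe_eval₂Hom, eval₂_monomial, monomial_eq, map_mul, map_mul, map_mul, Finsupp.prod, Finsupp.prod]
  rw [RingHom.comp_apply, RingHom.comp_apply, mul_assoc, ProjChart.dehom_C]
  congr 1
  have h1 : ∀ i ∈ s.support, (Polynomial.C (toY G j (ProjChart.dehom N k j (X i))) * Polynomial.X :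
      Polynomial Γ(Y G, ychart G j)) ^ s i =
      Polynomial.C (toY G j (ProjChart.dehom N k j (X i ^ s i))) * Polynomial.X ^ s i := by
    intro i _
    rw [map_pow, map_pow]
    exact aux_pow' _ _
  rw [Finset.prod_congr rfl h1, Finset.prod_mul_distrib, ← map_prod, ← map_prod, ← map_prod,
    Finset.prod_pow_eq_pow_sum]
  rfl

theorem lamS_homog {D : ℕ} {p : MvPolynomial (Fin (N + 1)) k} (hp : p.IsHomogeneous D) :
    lamS G j p = Polynomial.C (toY G j (ProjChart.dehom N k j p)) * Polynomial.X ^ D := by
  rw [p.as_sum, map_sum, map_sum, map_sum, map_sum, Finset.sum_mul]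
  refine Finset.sum_congr rfl fun s hs => ?_
  rw [lamS_monomial]
  congr 2
  have := hp (mem_support_iff.1 hs)
  rw [← this, Finsupp.weight_apply, Finsupp.degree_apply, Finsupp.sum]
  simp

theorem lamS_ker : ∀ p ∈ Ideal.span (Set.range fun i => (G i).1), lamS G j p = 0 := by
  have : Ideal.span (Set.range fun i => (G i).1) ≤ RingHom.ker (lamS G j) := by
    rw [Ideal.span_le]
    rintro _ ⟨i, rfl⟩
    have h0 : ProjChart.dehom N k j (G i).1 ∈ RingHom.ker (toY G j) := by
      rw [ker_toY]
      exact Ideal.subset_span ⟨i, rfl⟩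
    change lamS G j (G i).1 = 0
    rw [lamS_homog G j (G i).2, RingHom.mem_ker.1 h0, map_zero, zero_mul]
  exact this

/-- `A → Γ(Y, D_+(T_j))[X]`. -/
noncomputable def lam : AG G →+* Polynomial Γ(Y G, ychart G j) := Ideal.Quotient.lift _ (lamS G j) (lamS_ker G j)

theorem lam_mk (p : MvPolynomial (Fin (N + 1)) k) : lam G j (mk (fun i => (G i).1) p) = lamS G j p := rfl

/-- Common denominators of the coefficients. -/
theorem exists_coeff (y : Polynomial Γ(Y G, ychart G j)) : ∃ D : ℕ, ∀ i, ∃ P : MvPolynomial (Fin (N + 1)) k,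
    P.IsHomogeneous D ∧ toY G j (ProjChart.dehom N k j P) = y.coeff i := by
  induction y using Polynomial.induction_on' with
  | add p q hp hq =>
    obtain ⟨D, hD⟩ := hp
    obtain ⟨E, hE⟩ := hq
    refine ⟨D + E, fun i => ?_⟩
    obtain ⟨P, hP, h1⟩ := hD i
    obtain ⟨Q, hQ, h2⟩ := hE i
    refine ⟨P * X j ^ E + Q * X j ^ D, ?_, ?_⟩
    · have h3 := hP.mul ((isHomogeneous_X k j).pow E)
      have h4 := hQ.mul ((isHomogeneous_X k j).pow D)
      rw [one_mul] at h3 h4
      rw [add_comm E D] at h4
      exact h3.add h4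
    · rw [map_add, map_mul, map_mul, map_pow, map_pow, ProjChart.dehom_X_self, one_pow, one_pow, mul_one, mul_one,
        map_add, h1, h2, Polynomial.coeff_add]
  | monomial n c =>
    obtain ⟨D, P, hP, h⟩ := exists_form G j c
    refine ⟨D, fun i => ?_⟩
    rw [Polynomial.coeff_monomial]
    split_ifs
    · exact ⟨P, hP, h⟩
    · exact ⟨0, isHomogeneous_zero _ _ _, by rw [map_zero, map_zero]⟩

end Lam

section Theta

variable (K : Type u) [Field K] [Algebra (AG G) K] [IsDomain (AG G)] [IsFractionRing (AG G) K]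
variable {j : Fin (N + 1)} (hj : T G j ≠ 0)

/-- `Γ(Y, D_+(T_j))[X] → K`, `X ↦ T_j`. -/
noncomputable def theta : Polynomial Γ(Y G, ychart G j) →+* K :=
  Polynomial.eval₂RingHom (chartHom G (incl G K) j (isUnit_incl G K hj)) (incl G K (T G j))

theorem theta_lam (x : AG G) : theta G K hj (lam G j x) = incl G K x := by
  obtain ⟨p, rfl⟩ := Ideal.Quotient.mk_surjective x
  have h : (theta G K hj).comp (lamS G j) = psiS G (incl G K) := by
    apply MvPolynomial.ringHom_ext
    · intro c
      rw [RingHom.comp_apply, lamS, coe_eval₂Hom, eval₂_C, RingHom.comp_apply, RingHom.comp_apply, theta,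
        Polynomial.coe_eval₂RingHom, Polynomial.eval₂_C]
      have h1 := chartHom_form G (incl G K) j (isUnit_incl G K hj) (isHomogeneous_C (Fin (N + 1)) c)
      rwa [ProjChart.dehom_C, pow_zero, mul_one] at h1
    · intro i
      rw [RingHom.comp_apply, lamS, coe_eval₂Hom, eval₂_X, theta,
        Polynomial.coe_eval₂RingHom, Polynomial.eval₂_mul, Polynomial.eval₂_C, Polynomial.eval₂_X]
      have h1 := chartHom_form G (incl G K) j (isUnit_incl G K hj) (isHomogeneous_X k i)
      rwa [pow_one] at h1
  exact congr($h p)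

variable (hh : ∀ i, ((G i).1).IsHomogeneous (a i))

theorem exists_expr (y : Polynomial Γ(Y G, ychart G j)) : ∃ (D : ℕ) (P : ℕ → AG G),
    (∀ i, Homog (fun i => (G i).1) hh D (P i)) ∧ (∀ i, P i = 0 → y.coeff i = 0) ∧
    theta G K hj y * incl G K (T G j) ^ D =
      incl G K (∑ i ∈ Finset.range (y.natDegree + 1), P i * T G j ^ i) := by
  obtain ⟨D, hD⟩ := exists_coeff G j y
  choose P hP h using hD
  refine ⟨D, fun i => mk _ (P i), fun i => homog_mk _ hh (hP i), fun i hi => ?_, ?_⟩
  · have h3 : P i ∈ Ideal.span (Set.range fun i => (G i).1) := Ideal.Quotient.eq_zero_iff_mem.1 hi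
    have h4 := Ideal.mem_map_of_mem (ProjChart.dehom N k j) h3
    rw [Ideal.map_span, ← Set.range_comp] at h4
    have h5 : ProjChart.dehom N k j (P i) ∈ RingHom.ker (toY G j) := by
      rw [ker_toY]
      exact h4
    rw [← h]
    exact h5
  · rw [theta, Polynomial.coe_eval₂RingHom, Polynomial.eval₂_eq_sum_range, Finset.sum_mul, map_sum]
    refine Finset.sum_congr rfl fun i _ => ?_
    have h1 := chartHom_form G (incl G K) j (isUnit_incl G K hj) (hP i)
    rw [h] at h1
    have h2 : psiS G (incl G K) (P i) = incl G K (mk _ (P i)) := rfl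
    rw [h2] at h1
    have h3 : psiS G (incl G K) (X j) = incl G K (T G j) := rfl
    rw [h3] at h1
    rw [map_mul, ← h1, map_pow]
    ring

include hh in
theorem theta_injective : Function.Injective (theta G K hj) := by
  rw [injective_iff_map_eq_zero]
  intro y hy
  obtain ⟨D, P, hP, h0, h⟩ := exists_expr G K hj hh y
  rw [hy, zero_mul] at h
  have h1 : (∑ i ∈ Finset.range (y.natDegree + 1), P i * T G j ^ i) = 0 := by
    apply IsFractionRing.injective (AG G) K
    rw [map_zero]
    exact h.symm
  have h2 := congrArg (delta (fun i => (G i).1) hh) h1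
  rw [map_sum, map_zero] at h2
  ext i
  rw [Polynomial.coeff_zero]
  by_cases hi : i ∈ Finset.range (y.natDegree + 1)
  · have h3 := congrArg (fun q => Polynomial.coeff q (D + i)) h2
    simp only [Polynomial.finsetSum_coeff, Polynomial.coeff_zero] at h3
    have h4 : ∀ l, (delta (fun i => (G i).1) hh (P l * T G j ^ l)).coeff (D + i) = if l = i then P i * T G j ^ i else 0 := by
      intro l
      have h5 : Homog (fun i => (G i).1) hh (D + l) (P l * T G j ^ l) := (hP l).mul _ hh (homog_T_pow j l)
      rw [Homog] at h5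
      rw [h5, Polynomial.coeff_C_mul, Polynomial.coeff_X_pow]
      by_cases hl : l = i
      · subst hl
        rw [if_pos rfl, if_pos rfl, mul_one]
      · rw [if_neg hl, if_neg (by omega), mul_zero]
    simp only [h4] at h3
    rw [Finset.sum_ite_eq' _ _ _, if_pos hi] at h3
    exact h0 i ((mul_eq_zero.1 h3).resolve_right (pow_ne_zero _ hj))
  · refine Polynomial.coeff_eq_zero_of_natDegree_lt ?_
    rw [Finset.mem_range] at hi
    omega

include hh hj in
theorem isIntegral_lift {x : K} (hx : (incl G K).IsIntegralElem x) (hic : IsIntegrallyClosed Γ(Y G, ychart G j)) :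
    ∃ (n : ℕ) (b : AG G), x * incl G K (T G j) ^ n = incl G K b := by
  have hdom : IsDomain Γ(Y G, ychart G j) :=
    (chartHom_injective G K hj).isDomain (chartHom G (incl G K) j (isUnit_incl G K hj))
  let _ : Algebra (Polynomial Γ(Y G, ychart G j)) K := (theta G K hj).toAlgebra
  have hinj : Function.Injective (algebraMap (Polynomial Γ(Y G, ychart G j)) K) := theta_injective G K hj hh
  have hf : FaithfulSMul (Polynomial Γ(Y G, ychart G j)) K := (faithfulSMul_iff_algebraMap_injective _ _).2 hinj
  have hB : IsFractionRing (Polynomial Γ(Y G, ychart G j)) K := by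
    refine IsFractionRing.of_field _ _ fun z => ?_
    obtain ⟨x, y, -, h⟩ := IsFractionRing.div_surjective (A := AG G) z
    refine ⟨lam G j x, lam G j y, ?_⟩
    have h1 : algebraMap (Polynomial Γ(Y G, ychart G j)) K (lam G j x) = incl G K x := theta_lam G K hj x
    have h2 : algebraMap (Polynomial Γ(Y G, ychart G j)) K (lam G j y) = incl G K y := theta_lam G K hj y
    rw [h1, h2]
    exact h.symm
  have hxB : IsIntegral (Polynomial Γ(Y G, ychart G j)) x := by
    obtain ⟨p, hp, hpx⟩ := hx
    refine ⟨p.map (lam G j), hp.map _, ?_⟩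
    rw [Polynomial.eval₂_map]
    have h3 : (algebraMap (Polynomial Γ(Y G, ychart G j)) K).comp (lam G j) = incl G K :=
      RingHom.ext fun x => theta_lam G K hj x
    rw [h3]
    exact hpx
  obtain ⟨y, hy⟩ := (isIntegrallyClosed_iff K).1 (inferInstance :
    IsIntegrallyClosed (Polynomial Γ(Y G, ychart G j))) hxB
  obtain ⟨D, P, -, -, h⟩ := exists_expr G K hj hh y
  refine ⟨D, ∑ i ∈ Finset.range (y.natDegree + 1), P i * T G j ^ i, ?_⟩
  rw [← hy]
  exact h

end Theta

section Alg

/-- Criterion for the localization at a prime to be integrally closed. -/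
theorem normal_of {A : Type u} [CommRing A] [IsDomain A] (q : Ideal A) [q.IsPrime] (K : Type u) [Field K] [Algebra A K]
    [IsFractionRing A K] (t : A) (ht : t ∉ q)
    (h : ∀ x : K, IsIntegral A x → ∃ (n : ℕ) (b : A), x * algebraMap A K t ^ n = algebraMap A K b) :
    IsIntegrallyClosed (Localization.AtPrime q) := by
  have hle : q.primeCompl ≤ nonZeroDivisors A := q.primeCompl_le_nonZeroDivisors
  let _ : Algebra (Localization.AtPrime q) K := IsLocalization.localizationAlgebraOfSubmonoidLe _ _ _ _ hle
  have : IsScalarTower A (Localization.AtPrime q) K :=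
    IsLocalization.localization_isScalarTower_of_submonoid_le _ _ _ _ hle
  have : IsFractionRing (Localization.AtPrime q) K :=
    IsFractionRing.isFractionRing_of_isDomain_of_isLocalization q.primeCompl _ _
  rw [isIntegrallyClosed_iff K]
  intro x hx
  obtain ⟨m, hm⟩ := IsIntegral.exists_multiple_integral_of_isLocalization q.primeCompl x hx
  obtain ⟨n, b, hb⟩ := h _ hm
  have hs : (m : A) * t ^ n ∈ q.primeCompl := q.primeCompl.mul_mem m.2
    (fun h => ht ((inferInstance : q.IsPrime).mem_of_pow_mem _ h))
  refine ⟨IsLocalization.mk' _ b ⟨_, hs⟩, ?_⟩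
  have hs0 : algebraMap A K ((m : A) * t ^ n) ≠ 0 := by
    rw [Ne, map_eq_zero_iff _ (IsFractionRing.injective A K)]
    exact fun h => hs (by rw [h]; exact q.zero_mem)
  apply mul_right_cancel₀ hs0
  have h1 : algebraMap A K ((m : A) * t ^ n) = algebraMap (Localization.AtPrime q) K
      (algebraMap A (Localization.AtPrime q) ((m : A) * t ^ n)) :=
    IsScalarTower.algebraMap_apply _ _ _ _
  have h2 : IsLocalization.mk' (Localization.AtPrime q) b (⟨_, hs⟩ : q.primeCompl) *
      algebraMap A (Localization.AtPrime q) ((m : A) * t ^ n) = algebraMap _ _ b :=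
    IsLocalization.mk'_spec _ _ _
  have h3 : (m • x : K) = algebraMap A K m * x := Algebra.smul_def _ _
  have h4 : algebraMap (Localization.AtPrime q) K (IsLocalization.mk' (Localization.AtPrime q) b (⟨_, hs⟩ : q.primeCompl)) *
      algebraMap A K ((m : A) * t ^ n) = algebraMap A K b := by
    rw [h1, ← map_mul, h2, ← IsScalarTower.algebraMap_apply]
  rw [h4, ← hb, h3, map_mul, map_pow]
  ring

end Alg

section Normal

variable [IsDomain (AG G)] (hh : ∀ i, ((G i).1).IsHomogeneous (a i))

include hh in
/-- Away from the origin the cone is normal. -/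
theorem isIntegrallyClosed_localization {j : Fin (N + 1)} (q : Ideal (AG G)) [q.IsPrime] (hj : T G j ∉ q)
    (hic : IsIntegrallyClosed Γ(Y G, ychart G j)) : IsIntegrallyClosed (Localization.AtPrime q) := by
  have hj0 : T G j ≠ 0 := fun h0 => hj (by rw [h0]; exact q.zero_mem)
  exact normal_of q (FractionRing (AG G)) (T G j) hj fun x hx => isIntegral_lift G _ hj0 hh hx hic

/-- The cone over a normal scheme is regular in codimension one. -/
theorem hasRk_one (hirr : 1 < (irr (fun i => (G i).1)).height) (hm : (irr (fun i => (G i).1)).IsMaximal)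
    [IsIntegral (Y G)] (hn : Pi1.IsNormalScheme (Y G)) : LocCoh.HasRk 1 (AG G) := by
  intro q hq hq1
  have hqi : q ≠ irr (fun i => (G i).1) := by
    rintro rfl
    exact absurd hq1 (not_le.2 hirr)
  obtain ⟨j, hj⟩ : ∃ j, T G j ∉ q := by
    by_contra hcon
    push Not at hcon
    exact hqi (eq_irr _ q hm hcon)
  have hne : Nonempty (ychart G j) := by
    have hjq : IsUnit (psiS (B := Localization.AtPrime q) G (algebraMap (AG G) (Localization.AtPrime q)) (X j)) := by
      have h0 : IsUnit (algebraMap (AG G) (Localization.AtPrime q) (T G j)) :=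
        IsLocalization.map_units (M := q.primeCompl) (Localization.AtPrime q) ⟨T G j, hj⟩
      exact h0
    exact ⟨⟨_, le_preimage_ychart (B := Localization.AtPrime q) G (algebraMap (AG G) (Localization.AtPrime q)) j hjq
      (Set.mem_univ (IsLocalRing.closedPoint (Localization.AtPrime q)))⟩⟩
  have hic : IsIntegrallyClosed Γ(Y G, ychart G j) :=
    Groth.Agent.Ega2.Normal.isIntegrallyClosed_of_isAffineOpen hn (isAffineOpen_ychart G j) hne
  have h1 := isIntegrallyClosed_localization G (fun i => (G i).2) q hj hic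
  refine Groth.Agent.CalgA.SerreLocal.isRegularLocalRing_of_isIntegrallyClosed ?_
  rw [IsLocalization.AtPrime.ringKrullDim_eq_height q (Localization.AtPrime q)]
  exact_mod_cast hq1

end Normal

end K945.ConeNormal
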