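import Groth.Agent.STCI.K945.Dehom
import Groth.Agent.Lefpen.H716.CIGeom
import Groth.Agent.Lefpen.H397.ConePt
import Groth.Agent.CohqA.ProjDim

/-!
# Integral hypersurfaces of projective space

* `exists_span`: an integral closed subscheme of dimension `n` of `P^{n+1}_k` is given by a principal homogeneous prime.
* `exists_iso`: it is `V_+(F)` for an irreducible form `F`.
-/

set_option autoImplicit false
universe u

open CategoryTheory AlgebraicGeometry Limits TopologicalSpace Opposite MvPolynomial Topology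

namespace K945.Surf

open LefPen Groth.Agent.Lefpen.H705.HypIdeal Groth.Agent.Lefpen.H716.CIGeom
open Groth.Agent.Lefpen.H705.ChartPoly Groth.Agent.Divis.IdealComap Groth.Agent.Fdesc.LocGen
open Groth.Agent.CohqA.ProjDim

section Chain

theorem chain {X Y : Type*} [TopologicalSpace X] [TopologicalSpace Y] (f : Y → X) (hf : IsClosedEmbedding f) (n : ℕ)
    (h : (n : WithBot ℕ∞) ≤ topologicalKrullDim Y) (Z0 Z1 : IrreducibleCloseds X) (h0 : Set.range f ⊆ Z0)
    (h0' : ¬ (Z0 : Set X) ⊆ Set.range f) (h1 : Z0 < Z1) :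
    ((n + 2 : ℕ) : WithBot ℕ∞) ≤ topologicalKrullDim X := by
  obtain ⟨p, hp⟩ := Order.le_krullDim_iff.1 h
  let q := p.map _ (IrreducibleCloseds.map_strictMono_of_isInducing hf.isInducing)
  have hq : q.last < Z0 := by
    have h2 : (q.last : Set X) ⊆ Set.range f := by
      have h3 : q.last = IrreducibleCloseds.map f hf.continuous p.last := rfl
      rw [h3, IrreducibleCloseds.coe_map]
      exact closure_minimal (Set.image_subset_range _ _) hf.isClosed_range
    refine lt_of_le_not_ge (fun x hx => h0 (h2 hx)) fun h4 => h0' fun x hx => h2 (h4 hx)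
  let q1 := q.snoc Z0 hq
  have hq1 : q1.last < Z1 := by
    rw [RelSeries.last_snoc]
    exact h1
  refine Order.le_krullDim_iff.2 ⟨q1.snoc Z1 hq1, ?_⟩
  have h5 : q.length = n := hp
  simp [q1, h5]

end Chain

variable {k : Type u} [Field k] {r : ℕ}

/-- `x ⤳ y` in terms of homogeneous primes. -/
theorem specializes_iff (x y : CohB1.ProjSpace r k) :
    x ⤳ y ↔ (ProjectiveSpectrum.asHomogeneousIdeal x).toIdeal ≤ (ProjectiveSpectrum.asHomogeneousIdeal y).toIdeal := by
  rw [specializes_iff_mem_closure]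
  exact (ProjectiveSpectrum.le_iff_mem_closure (CohB1.polyGrading r k) x y).symm

theorem ext_ideal (x y : CohB1.ProjSpace r k)
    (h : (ProjectiveSpectrum.asHomogeneousIdeal x).toIdeal = (ProjectiveSpectrum.asHomogeneousIdeal y).toIdeal) :
    x = y := by
  have h1 : ProjectiveSpectrum.asHomogeneousIdeal x = ProjectiveSpectrum.asHomogeneousIdeal y :=
    HomogeneousIdeal.toIdeal_injective h
  exact ProjectiveSpectrum.ext h1

theorem le_dim (n : ℕ) : (n : WithBot ℕ∞) ≤ topologicalKrullDim (CohB1.ProjSpace n k) := by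
  have h1 := (Groth.Agent.Sga5.ProjSmooth.chart n k 0).isOpenEmbedding.isInducing.topologicalKrullDim_le
  refine le_trans ?_ h1
  have h2 := PrimeSpectrum.topologicalKrullDim_eq_ringKrullDim (R := MvPolynomial (Fin n) k)
  have h3 : topologicalKrullDim (Spec (CommRingCat.of (MvPolynomial (Fin n) k))) = n := by
    refine h2.trans ?_
    simp [MvPolynomial.ringKrullDim_of_isNoetherianRing]
  exact h3.ge

section Point

/-- The point of a homogeneous prime contained in the prime of a point. -/
def pt (x : CohB1.ProjSpace r k) (I : Ideal (MvPolynomial (Fin (r + 1)) k)) (hI : I.IsHomogeneous (CohB1.polyGrading r k))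
    (hp : I.IsPrime) (hle : I ≤ (ProjectiveSpectrum.asHomogeneousIdeal x).toIdeal) : CohB1.ProjSpace r k :=
  (⟨⟨I, hI⟩, hp, fun h => x.not_irrelevant_le (h.trans hle)⟩ : ProjectiveSpectrum (CohB1.polyGrading r k))

end Point

section Span

variable {n : ℕ} {S : Scheme.{u}} (i : S ⟶ CohB1.ProjSpace (n + 1) k) [IsClosedImmersion i] [IsIntegral S]

theorem range_eq : Set.range i = closure {i (genericPoint S)} := by
  have h1 := genericPoint_closure (α := S)
  have h2 := i.isClosedEmbedding.closure_image_eq {genericPoint S}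
  rw [h1, Set.image_singleton, Set.image_univ] at h2
  exact h2.symm

theorem exists_span (hdim : topologicalKrullDim S = n) : ∃ (D : ℕ) (F : Form (n + 1) k D), Irreducible F.1 ∧
    (ProjectiveSpectrum.asHomogeneousIdeal (i (genericPoint S))).toIdeal = Ideal.span {F.1} := by
  set x := i (genericPoint S) with hx
  have hr := range_eq i
  rw [← hx] at hr
  have hprime : (ProjectiveSpectrum.asHomogeneousIdeal x).toIdeal.IsPrime := x.isPrime
  -- nonzero
  have h0 : (ProjectiveSpectrum.asHomogeneousIdeal x).toIdeal ≠ ⊥ := by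
    intro h0
    have h1 : ∀ y : CohB1.ProjSpace (n + 1) k, x ⤳ y := fun y => by
      rw [specializes_iff, h0]; exact bot_le
    have h2 : Function.Surjective i := by
      rw [← Set.range_eq_univ, hr, Set.eq_univ_iff_forall]
      exact fun y => (h1 y).mem_closure
    have h3 : IsHomeomorph i := isHomeomorph_iff_isEmbedding_surjective.2 ⟨i.isClosedEmbedding.isEmbedding, h2⟩
    have h4 := h3.topologicalKrullDim_eq
    have h5 := le_dim (k := k) (n + 1)
    rw [← h4, hdim] at h5
    have h6 : (n + 1 : ℕ) ≤ n := by exact_mod_cast h5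
    omega
  obtain ⟨f, hf, hf0⟩ := Submodule.exists_mem_ne_zero_of_ne_bot h0
  -- a homogeneous element
  obtain ⟨D0, hD0⟩ : ∃ D0, homogeneousComponent D0 f ≠ 0 := by
    by_contra hcon
    push Not at hcon
    apply hf0
    rw [← sum_homogeneousComponent f]
    exact Finset.sum_eq_zero fun j _ => hcon j
  have hmem : homogeneousComponent D0 f ∈ (ProjectiveSpectrum.asHomogeneousIdeal x).toIdeal := by
    have h1 := (ProjectiveSpectrum.asHomogeneousIdeal x).isHomogeneous D0 hf
    have h2 : ((DirectSum.decompose (CohB1.polyGrading (n + 1) k) f D0 : CohB1.polyGrading (n + 1) k D0) :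
        MvPolynomial (Fin (n + 2)) k) = homogeneousComponent D0 f :=
      MvPolynomial.decomposition.decompose'_apply f D0
    rwa [h2] at h1
  obtain ⟨D, F, hF, hFi, hFx, -⟩ := K945.HomFac.exists_irreducible _ D0 _
    (homogeneousComponent_isHomogeneous D0 f) hD0 hmem
  refine ⟨D, ⟨F, hF⟩, hFi, ?_⟩
  have hFI : (Ideal.span {F}).IsHomogeneous (CohB1.polyGrading (n + 1) k) := by
    refine Ideal.homogeneous_span _ _ ?_
    rintro _ rfl
    exact ⟨D, hF⟩
  have hle : Ideal.span {F} ≤ (ProjectiveSpectrum.asHomogeneousIdeal x).toIdeal := by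
    rw [Ideal.span_singleton_le_iff_mem]; exact hFx
  have hFp : (Ideal.span {F}).IsPrime := by
    rw [Ideal.span_singleton_prime hFi.ne_zero]
    exact hFi.prime
  refine le_antisymm ?_ hle
  by_contra hcon
  let y : CohB1.ProjSpace (n + 1) k := pt x _ hFI hFp hle
  have hyI : (ProjectiveSpectrum.asHomogeneousIdeal y).toIdeal = Ideal.span {F} := rfl
  have hyx : y ⤳ x := by rw [specializes_iff, hyI]; exact hle
  have hxy : ¬ x ⤳ y := by rw [specializes_iff, hyI]; exact hcon
  let g : CohB1.ProjSpace (n + 1) k := gpt k (n + 1)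
  have hgI : (ProjectiveSpectrum.asHomogeneousIdeal g).toIdeal = ⊥ := HomogeneousIdeal.toIdeal_bot ..
  have hgy : g ⤳ y := gpt_specializes y
  have hyg : ¬ y ⤳ g := by
    rw [specializes_iff, hyI, hgI, le_bot_iff, Ideal.span_singleton_eq_bot]
    exact hFi.ne_zero
  let Z0 : IrreducibleCloseds (CohB1.ProjSpace (n + 1) k) := ⟨closure {y}, isIrreducible_singleton.closure, isClosed_closure⟩
  let Z1 : IrreducibleCloseds (CohB1.ProjSpace (n + 1) k) := ⟨closure {g}, isIrreducible_singleton.closure, isClosed_closure⟩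
  have h1 := chain i i.isClosedEmbedding n hdim.ge Z0 Z1 (by
      rw [hr]
      exact hyx.closure_subset) (by
      rw [hr]
      intro h
      exact hxy (specializes_iff_mem_closure.2 (h (subset_closure rfl)))) (by
      refine lt_of_le_not_ge hgy.closure_subset fun h => hyg ?_
      exact specializes_iff_mem_closure.2 (h (subset_closure rfl)))
  have h2 := h1.trans (topologicalKrullDim_le k (n + 1))
  have h3 : (n + 2 : ℕ) ≤ n + 1 := by exact_mod_cast h2
  omega

/-- The kernel on the charts. -/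
theorem mem_ker_iff (j : Fin (n + 1 + 1)) {D : ℕ} (P : Form (n + 1) k D) :
    (i.app (chart (n + 1) k j)).hom (dehom P j) = 0 ↔
      (i (genericPoint S) ∈ chart (n + 1) k j → P.1 ∈ (ProjectiveSpectrum.asHomogeneousIdeal (i (genericPoint S))).toIdeal) := by
  set x := i (genericPoint S) with hx
  have h1 : S.basicOpen ((i.app (chart (n + 1) k j)).hom (dehom P j)) =
      i ⁻¹ᵁ ((CohB1.ProjSpace (n + 1) k).basicOpen (dehom P j)) := (Scheme.Hom.preimage_basicOpen i _).symm
  rw [← AlgebraicGeometry.basicOpen_eq_bot_iff, h1]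
  constructor
  · intro h hxj
    by_contra hP
    have h2 : x ∈ (CohB1.ProjSpace (n + 1) k).basicOpen (dehom P j) :=
      (mem_basicOpen_dehom_iff P j x hxj).2 hP
    have h3 : genericPoint S ∈ i ⁻¹ᵁ ((CohB1.ProjSpace (n + 1) k).basicOpen (dehom P j)) := h2
    rw [h] at h3
    exact h3
  · intro h
    rw [eq_bot_iff]
    intro s hs
    have h4 : genericPoint S ∈ i ⁻¹ᵁ ((CohB1.ProjSpace (n + 1) k).basicOpen (dehom P j)) :=
      ((genericPoint_spec S).mem_open_set_iff (Opens.isOpen _)).2 ⟨s, trivial, hs⟩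
    have h5 : x ∈ (CohB1.ProjSpace (n + 1) k).basicOpen (dehom P j) := h4
    have h6 : x ∈ chart (n + 1) k j := (CohB1.ProjSpace (n + 1) k).basicOpen_le _ h5
    exact absurd (h h6) ((mem_basicOpen_dehom_iff P j x h6).1 h5)

/-- A dehomogenized form vanishes iff the form is in the ideal. -/
theorem ker_eq_aux {D : ℕ} (F : Form (n + 1) k D) (hF : Irreducible F.1)
    (h : (ProjectiveSpectrum.asHomogeneousIdeal (i (genericPoint S))).toIdeal = Ideal.span {F.1})
    (j : Fin (n + 1 + 1)) {E : ℕ} (P : Form (n + 1) k E) :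
    (i.app (chart (n + 1) k j)).hom (dehom P j) = 0 ↔ dehom P j ∈ Ideal.span {dehom F j} := by
  rw [mem_ker_iff, h, dehom_eq, dehom_eq, Ideal.mem_span_singleton, Ideal.mem_span_singleton]
  by_cases hj : i (genericPoint S) ∈ chart (n + 1) k j
  · have hnd : ¬ (F.1 ∣ X j) := by
      intro hd
      apply hj
      change X j ∈ (ProjectiveSpectrum.asHomogeneousIdeal (i (genericPoint S))).toIdeal
      rw [h, Ideal.mem_span_singleton]
      exact hd
    constructor
    · intro h2
      exact map_dvd _ (map_dvd _ (h2 hj))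
    · rintro ⟨q, hq⟩ -
      obtain ⟨q, rfl⟩ := (polyToChart_bijective j).2 q
      rw [← map_mul] at hq
      have hq1 := (polyToChart_bijective j).1 hq
      exact K945.Dehom.dvd_of_dehom_dvd j F.2 hF.prime hnd P.2 ⟨q, hq1⟩
  · have h2 : X j ∈ (ProjectiveSpectrum.asHomogeneousIdeal (i (genericPoint S))).toIdeal := by
      by_contra h3
      exact hj h3
    rw [h, Ideal.mem_span_singleton] at h2
    have h3 : IsUnit (Groth.Agent.Sga5.ProjChart.dehom (n + 1) k j F.1) := by
      refine isUnit_of_dvd_one ?_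
      rw [← Groth.Agent.Sga5.ProjChart.dehom_X_self (n + 1) k j]
      exact map_dvd _ h2
    exact ⟨fun _ => (h3.map (polyToChart j)).dvd, fun _ h4 => absurd h4 hj⟩

theorem ker_eq {D : ℕ} (F : Form (n + 1) k D) (hF : Irreducible F.1)
    (h : (ProjectiveSpectrum.asHomogeneousIdeal (i (genericPoint S))).toIdeal = Ideal.span {F.1})
    (j : Fin (n + 1 + 1)) (x : Γ(CohB1.ProjSpace (n + 1) k, chart (n + 1) k j)) :
    (i.app (chart (n + 1) k j)).hom x = 0 ↔ x ∈ Ideal.span {dehom F j} := by
  obtain ⟨p, hp⟩ := (polyToChart_bijective j).2 x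
  obtain ⟨E, P, hP, hp'⟩ := Groth.Agent.Lefpen.H397.ConePt.exists_dehom (k := k) j p
  obtain ⟨P', hP'⟩ : ∃ P' : Form (n + 1) k E, P' = ⟨P, hP⟩ := ⟨_, rfl⟩
  have h1 : x = dehom P' j := by
    rw [dehom_eq, hP', hp', hp]
  rw [h1]
  exact ker_eq_aux i F hF h j P'

theorem ker_eq_hypIdeal {D : ℕ} (F : Form (n + 1) k D) (hF : Irreducible F.1)
    (h : (ProjectiveSpectrum.asHomogeneousIdeal (i (genericPoint S))).toIdeal = Ideal.span {F.1}) :
    i.ker = hypIdeal F := by
  refine Scheme.IdealSheafData.ext_of_iSup_eq_top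
    (fun j : Fin (n + 1 + 1) => ⟨chart (n + 1) k j, isAffineOpen_chart j⟩) iSup_chart fun j => ?_
  rw [hypIdeal_ideal_of_le F j _ le_rfl, Scheme.Hom.ker_apply]
  have h1 : ores (le_refl (chart (n + 1) k j)) (dehom F j) = dehom F j := by
    simp [ores]
  refine Ideal.ext fun x => ?_
  rw [RingHom.mem_ker]
  refine (ker_eq i F hF h j x).trans ?_
  change _ ↔ x ∈ Ideal.span {ores (le_refl (chart (n + 1) k j)) (dehom F j)}
  rw [h1]

theorem exists_iso (hdim : topologicalKrullDim S = n) : ∃ (D : ℕ) (F : Form (n + 1) k D), Irreducible F.1 ∧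
    (ProjectiveSpectrum.asHomogeneousIdeal (i (genericPoint S))).toIdeal = Ideal.span {F.1} ∧
    ∃ e : S ≅ (ciIdeal (fun _ : Fin 1 => F)).subscheme, e.hom ≫ (ciIdeal (fun _ : Fin 1 => F)).subschemeι = i := by
  obtain ⟨D, F, hF, h⟩ := exists_span i hdim
  refine ⟨D, F, hF, h, ?_⟩
  have h1 : i.ker = ciIdeal (fun _ : Fin 1 => F) := by
    rw [ker_eq_hypIdeal i F hF h, ciIdeal, iSup_const]
  rw [← h1]
  exact ⟨asIso i.toImage, i.toImage_imageι⟩

end Span

end K945.Surf
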