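import Groth.Agent.STCI.K945.RootAll2
import Groth.Agent.STCI.K945.ConeNormal
import Groth.Agent.STCI.K945.Surf
import Groth.Agent.Lefpen.H397.PicRoot
import Groth.Agent.Lefpen.H21.PicTwist

/-!
# The Picard group of a normal hypersurface modulo twists is torsion-free
-/

set_option autoImplicit false
set_option linter.unusedSectionVars false
universe u

open CategoryTheory AlgebraicGeometry Limits TopologicalSpace Opposite MvPolynomial

namespace K945.PicHyp

open LefPen Groth.Agent.Lefpen.H705.ChartPoly Groth.Agent.Lefpen.H705.HypIdeal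
open Groth.Agent.Lefpen.H718.ConeCM Groth.Agent.Lefpen.H718.Grade Groth.Agent.Lefpen.H718.Chart
open Groth.Agent.Lefpen.H718.Frame
open Groth.Agent.Sga5 Groth.Agent.Lefpen.H397.ConePt Groth.Agent.Lefpen.H397.ConeField Groth.Agent.Ega4dA.GenSec
open Groth.Agent.Lefpen.H397.TwistGen Groth.Agent.Smoothlim.PowSec
open Groth.Agent.Grpsch.PicGrp Groth.Agent.Lefpen.H21.PicTwist

section Cone

variable {k : Type u} [Field k] [IsAlgClosed k] {N : ℕ} {a : Fin 1 → ℕ} (G : ∀ j : Fin 1, Form N k (a j))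
variable (hg : ∀ i, constantCoeff (G i).1 = 0) (hg0 : (G 0).1 ≠ 0) [hdom : IsDomain (AG G)]
  (hR : LocCoh.HasRk 1 (AG G)) (hN : 3 ≤ N)

include hg hg0 hN in
theorem height_irr_eq : (irr (fun i => (G i).1)).height = (N - 1 + 1 : ℕ) :=
  ConeHt.height_irr (fun i => (G i).1) hg (ConeHt.one_le_height (g := fun i => (G i).1) hg0) (by omega)

include hg hg0 hN in
theorem exists_T_ne_zero : ∃ j, T G j ≠ 0 := by
  by_contra hcon
  push Not at hcon
  have h1 := height_irr_eq G hg hg0 hN
  have h2 : irr (fun i => (G i).1) = ⊥ := by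
    have := isMaximal_irr (fun i => (G i).1) hg
    refine (eq_irr (fun i => (G i).1) ⊥ this fun j => ?_).symm
    exact hcon j
  rw [h2, Ideal.height_bot] at h1
  exact absurd h1 (by norm_cast)

include hg0 hR in
theorem isIntegrallyClosed : IsIntegrallyClosed (AG G) := by
  refine IsIntegrallyClosed.of_localization_maximal fun p _ hp => ?_
  exact (ConeHt.normal_localization (fun i => (G i).1)
    (ConeHt.one_le_height (g := fun i => (G i).1) hg0) hR p).2

include hg hg0 hR hN

theorem htf (x : Pic (Y G)) (m : ℕ) (hm : 1 ≤ m) (hx : x ^ m = 1) : x = 1 := by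
  obtain ⟨L, hL, rfl⟩ := exists_mk x
  rw [← mk_tensorPow, mk_eq_one_iff] at hx
  rw [mk_eq_one_iff]
  obtain ⟨φ⟩ := hx
  have hcl := isIntegrallyClosed G hg0 hR
  have hh : ∀ i, ((G i).1).IsHomogeneous (a i) := fun i => (G i).2
  obtain ⟨e, E, -, h1⟩ := Groth.Agent.Lefpen.H397.PicRoot.main G (FractionRing (AG G)) hh (isMaximal_irr _ hg)
    (exists_T_ne_zero G hg hg0 hN) m hm
    (fun f D hf hf0 hl => K945.RootAll2.root_all (fun i => (G i).1) hh hg hg0 hR hN m hm f D hf hf0 hl)
    (Coh.structureModule (Y G)) 0 (fun j => oneSec (Y G) (ychart G j)) (fun j => isGen_oneSec _)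
    (fun i j V hi hj => by rw [res_oneSec, res_oneSec, pow_zero, one_smul]) L hL φ
  exact h1 rfl

theorem hnd (x : Pic (Y G)) (m : ℕ) (hm : 2 ≤ m) : x ^ m ≠ hyp (yι G) := by
  obtain ⟨L, hL, rfl⟩ := exists_mk x
  intro hx
  rw [← mk_tensorPow] at hx
  have h0 := mk_pullback_twist (yι G) (1 : ℤ)
  rw [zpow_one] at h0
  rw [← h0, mk_eq_iff] at hx
  obtain ⟨φ⟩ := hx
  have hcl := isIntegrallyClosed G hg0 hR
  have hh : ∀ i, ((G i).1).IsHomogeneous (a i) := fun i => (G i).2
  obtain ⟨e, E, h1, -⟩ := Groth.Agent.Lefpen.H397.PicRoot.main G (FractionRing (AG G)) hh (isMaximal_irr _ hg)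
    (exists_T_ne_zero G hg hg0 hN) m (by omega)
    (fun f D hf hf0 hl => K945.RootAll2.root_all (fun i => (G i).1) hh hg hg0 hR hN m (by omega) f D hf hf0 hl)
    (OY1 G) 1 (tY G) (isGen_tY G)
    (fun i j V hi hj => by rw [pow_one]; exact tY_rel G i j hi hj) L hL φ
  have h2 : m ∣ 1 := (Nat.dvd_add_right (Dvd.intro E rfl)).1 (Dvd.intro e h1)
  have h3 := Nat.le_of_dvd Nat.one_pos h2
  omega

theorem exists_zpow (x : Pic (Y G)) (m : ℕ) (hm : 1 ≤ m) (e : ℤ) (hx : x ^ m = hyp (yι G) ^ e) :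
    ∃ f : ℤ, x = hyp (yι G) ^ f :=
  exists_zpow_of_pow_eq_zpow _ (htf G hg hg0 hR hN) (hnd G hg hg0 hR hN) hm hx

end Cone

section Prime

variable {k : Type u} [Field k] {N D : ℕ} (F : Form N k D)

theorem isDomain_A (hF : Irreducible F.1) : IsDomain (AG (fun _ : Fin 1 => F)) := by
  have h1 : Ideal.span (Set.range fun _ : Fin 1 => F.1) = Ideal.span {F.1} := by
    rw [Set.range_const]
  have h2 : (Ideal.span (Set.range fun _ : Fin 1 => F.1)).IsPrime := by
    rw [h1, Ideal.span_singleton_prime hF.ne_zero]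
    exact hF.prime
  exact (Ideal.Quotient.isDomain_iff_prime _).2 h2

theorem constantCoeff_eq_zero (hF : Irreducible F.1) : constantCoeff F.1 = 0 := by
  have hD : D ≠ 0 := by
    rintro rfl
    exact hF.not_isUnit (K945.HomFac.isUnit_of_isHomogeneous_zero F.2 hF.ne_zero)
  by_contra hc
  rw [constantCoeff_eq] at hc
  have := F.2 hc
  simp at this
  exact hD this.symm

end Prime

/-- The main theorem for a normal hypersurface of dimension at least two. -/
theorem main {k : Type u} [Field k] [IsAlgClosed k] {n : ℕ} (hn : 2 ≤ n) {S : Scheme.{u}}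
    (i : S ⟶ CohB1.ProjSpace (n + 1) k) [IsClosedImmersion i] [IsIntegral S] (hS : Pi1.IsNormalScheme S)
    (hdim : topologicalKrullDim S = n) (L : S.Modules) (hL : PicF.IsInvertible L) (m : ℕ) (hm : 0 < m) (a : ℤ)
    (hma : Nonempty (CohB1.tensorPow L m ≅ (Scheme.Modules.pullback i).obj (Twist.twistProjSpace (n + 1) k a))) :
    ∃ b : ℤ, Nonempty (L ≅ (Scheme.Modules.pullback i).obj (Twist.twistProjSpace (n + 1) k b)) := by
  obtain ⟨D, F, hF, -, e, he⟩ := K945.Surf.exists_iso i hdim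
  let G : ∀ j : Fin 1, Form (n + 1) k D := fun _ => F
  have hdom : IsDomain (AG G) := isDomain_A F hF
  have hg : ∀ i, constantCoeff (G i).1 = 0 := fun _ => constantCoeff_eq_zero F hF
  have hg0 : (G 0).1 ≠ 0 := hF.ne_zero
  have hne : Nonempty (Y G) := ⟨e.hom (genericPoint S)⟩
  have hint : IsIntegral (Y G) := isIntegral_of_isOpenImmersion e.inv
  have hnorm : Pi1.IsNormalScheme (Y G) := by
    intro y
    have h1 := hS (e.inv y)
    have e1 := (asIso (e.inv.stalkMap y)).commRingCatIsoToRingEquiv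
    have h2 := h1.1
    have h3 := h1.2
    exact ⟨e1.symm.injective.isDomain e1.symm.toRingHom, IsIntegrallyClosed.of_equiv e1⟩
  have hR : LocCoh.HasRk 1 (AG G) := by
    refine K945.ConeNormal.hasRk_one G ?_ (isMaximal_irr _ hg) hnorm
    rw [height_irr_eq G hg hg0 (by omega)]
    have : 1 < n + 1 - 1 + 1 := by omega
    exact_mod_cast this
  have hi : hyp i = pull e.hom (hyp (yι G)) := by
    rw [hyp, hyp, ← pull_comp]
    exact congrArg (fun q => pull q (o (n + 1) k 1)) he.symm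
  have h1 : mk L hL ^ m = hyp i ^ a := by
    rw [← mk_tensorPow, mk_eq_hyp_zpow_iff]
    exact hma
  have h2 : (pull e.inv (mk L hL)) ^ m = hyp (yι G) ^ a := by
    rw [← map_pow, h1, hi, map_zpow, ← pull_comp]
    have h3 : e.inv ≫ e.hom = 𝟙 _ := e.inv_hom_id
    rw [h3, pull_id]
  obtain ⟨f, hf⟩ := exists_zpow G hg hg0 hR (by omega) _ m hm a h2
  refine ⟨f, ?_⟩
  rw [← mk_eq_hyp_zpow_iff i f hL, hi, ← map_zpow, ← hf, ← pull_comp]
  have h3 : e.hom ≫ e.inv = 𝟙 _ := e.hom_inv_id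
  rw [h3, pull_id]

end K945.PicHyp
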