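import Groth.Agent.STCI.K945.Cut2
import Groth.Agent.Ega1.ReducedSub
import Groth.Agent.Lefpen.H879.Ker

/-!
# Integral subschemes of projective space which are set-theoretic intersections with a hypersurface regular along them
-/

set_option autoImplicit false
set_option linter.unusedSectionVars false
universe u

open CategoryTheory AlgebraicGeometry Limits TopologicalSpace Opposite MvPolynomial Topology

namespace K945.CutGeo

open LefPen Groth.Agent.Lefpen.H705.ChartPoly Groth.Agent.Lefpen.H705.HypIdeal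
open Groth.Agent.Divis.IdealComap Groth.Agent.Fdesc.LocGen
open Groth.Agent.Lefpen.H718.Chart K945.Surf K945.Cut Groth.Agent.CohqA.ProjDim

theorem succ_le_of_not_le (x : WithBot ℕ∞) (n : ℕ) (h : ¬ x ≤ (n : WithBot ℕ∞)) :
    ((n + 1 : ℕ) : WithBot ℕ∞) ≤ x := by
  induction x using WithBot.recBotCoe with
  | bot => exact absurd bot_le h
  | coe a =>
    have h1 : (n : ℕ∞) < a := by
      by_contra h2
      exact h (by exact_mod_cast (not_lt.1 h2))
    have h3 : ((n + 1 : ℕ) : ℕ∞) ≤ a := by
      push_cast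
      exact Order.add_one_le_of_lt h1
    exact_mod_cast h3

theorem chain_one {X Y : Type*} [TopologicalSpace X] [TopologicalSpace Y] (f : Y → X) (hf : IsClosedEmbedding f) (n : ℕ)
    (h : (n : WithBot ℕ∞) ≤ topologicalKrullDim Y) (Z0 : IrreducibleCloseds X) (h0 : Set.range f ⊆ Z0)
    (h0' : ¬ (Z0 : Set X) ⊆ Set.range f) : ((n + 1 : ℕ) : WithBot ℕ∞) ≤ topologicalKrullDim X := by
  obtain ⟨p, hp⟩ := Order.le_krullDim_iff.1 h
  let q := p.map _ (IrreducibleCloseds.map_strictMono_of_isInducing hf.isInducing)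
  have hq : q.last < Z0 := by
    have h2 : (q.last : Set X) ⊆ Set.range f := by
      have h3 : q.last = IrreducibleCloseds.map f hf.continuous p.last := rfl
      rw [h3, IrreducibleCloseds.coe_map]
      exact closure_minimal (Set.image_subset_range _ _) hf.isClosed_range
    refine lt_of_le_not_ge (fun x hx => h0 (h2 hx)) fun h4 => h0' fun x hx => h2 (h4 hx)
  refine Order.le_krullDim_iff.2 ⟨q.snoc Z0 hq, ?_⟩
  have h5 : q.length = n := hp
  simp [h5]

variable {k : Type u} [Field k] {n : ℕ}

/-- Integral closed subscheme with given generic point. -/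
theorem exists_subscheme (t : CohB1.ProjSpace (n + 1) k) :
    ∃ (T : Scheme.{u}) (i : T ⟶ CohB1.ProjSpace (n + 1) k) (_ : IsClosedImmersion i) (_ : IsIntegral T),
      i (genericPoint T) = t := by
  let Z : Closeds (CohB1.ProjSpace (n + 1) k) := ⟨closure {t}, isClosed_closure⟩
  let I := Scheme.IdealSheafData.vanishingIdeal Z
  have hr : Set.range I.subschemeι = closure {t} := by
    rw [Scheme.IdealSheafData.range_subschemeι]
    exact Scheme.IdealSheafData.coe_support_vanishingIdeal _
  have hred : IsReduced I.subscheme := Groth.Agent.Ega1.ReducedSub.isReduced_subscheme_vanishingIdeal Z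
  have hirr : IrreducibleSpace I.subscheme := by
    have h1 : IsIrreducible (Set.range I.subschemeι) := by
      rw [hr]
      exact isIrreducible_singleton.closure
    have h2 : IsPreirreducible (I.subschemeι ⁻¹' Set.range I.subschemeι) :=
      Groth.Agent.VarietyB.DimTop.isPreirreducible_preimage I.subschemeι.isClosedEmbedding.isInducing
        h1.isPreirreducible le_rfl
    rw [Set.preimage_range] at h2
    obtain ⟨_, x, rfl⟩ := h1.nonempty
    exact { isPreirreducible_univ := h2, toNonempty := ⟨x⟩ }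
  have hint : IsIntegral I.subscheme := isIntegral_of_irreducibleSpace_of_isReduced _
  refine ⟨I.subscheme, I.subschemeι, inferInstance, hint, ?_⟩
  have h3 := range_eq I.subschemeι
  rw [hr] at h3
  apply ext_ideal
  refine le_antisymm ?_ ?_
  · rw [← specializes_iff, specializes_iff_mem_closure, ← h3]
    exact subset_closure rfl
  · rw [← specializes_iff, specializes_iff_mem_closure, h3]
    exact subset_closure rfl

section Ker

variable {C : Scheme.{u}} (i : C ⟶ CohB1.ProjSpace (n + 1) k) [IsClosedImmersion i] [IsIntegral C] {D E : ℕ}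
  (F : Form (n + 1) k D) (F' : Form (n + 1) k E)
  (h : idl (i (genericPoint C)) = Ideal.span {F.1, F'.1})

include h

theorem mem_ker_aux (j : Fin (n + 1 + 1)) {d : ℕ} (P : Form (n + 1) k d) :
    (i.app (chart (n + 1) k j)).hom (dehom P j) = 0 ↔
      dehom P j ∈ Ideal.span {dehom F j} ⊔ Ideal.span {dehom F' j} := by
  constructor
  · intro h1
    rw [mem_ker_iff] at h1
    rw [← Ideal.span_union, Set.singleton_union, dehom_eq, dehom_eq, dehom_eq]
    have key : ∀ Q : MvPolynomial (Fin (n + 1 + 1)) k, Q ∈ Ideal.span {F.1, F'.1} →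
        polyToChart j (Groth.Agent.Sga5.ProjChart.dehom (n + 1) k j Q) ∈ Ideal.span
          {polyToChart j (Groth.Agent.Sga5.ProjChart.dehom (n + 1) k j F.1),
            polyToChart j (Groth.Agent.Sga5.ProjChart.dehom (n + 1) k j F'.1)} := by
      intro Q hQ
      rw [Ideal.mem_span_pair] at hQ ⊢
      obtain ⟨a, b, rfl⟩ := hQ
      exact ⟨polyToChart j (Groth.Agent.Sga5.ProjChart.dehom (n + 1) k j a),
        polyToChart j (Groth.Agent.Sga5.ProjChart.dehom (n + 1) k j b), by simp only [map_add, map_mul]⟩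
    by_cases hj : i (genericPoint C) ∈ chart (n + 1) k j
    · refine key P.1 ?_
      rw [← h]
      exact h1 hj
    · have h2 : X j ∈ idl (i (genericPoint C)) := by
        by_contra h3
        exact hj h3
      rw [h] at h2
      have h3 := key _ h2
      rw [Groth.Agent.Sga5.ProjChart.dehom_X_self, map_one] at h3
      rw [(Ideal.eq_top_iff_one _).2 h3]
      trivial
  · intro h1
    have hF : (i.app (chart (n + 1) k j)).hom (dehom F j) = 0 := by
      rw [mem_ker_iff]
      intro _
      change F.1 ∈ idl (i (genericPoint C))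
      rw [h]
      exact Ideal.subset_span (by simp)
    have hF' : (i.app (chart (n + 1) k j)).hom (dehom F' j) = 0 := by
      rw [mem_ker_iff]
      intro _
      change F'.1 ∈ idl (i (genericPoint C))
      rw [h]
      exact Ideal.subset_span (by simp)
    have h2 : Ideal.span {dehom F j} ⊔ Ideal.span {dehom F' j} ≤ RingHom.ker (i.app (chart (n + 1) k j)).hom := by
      refine sup_le ?_ ?_
      · rw [Ideal.span_singleton_le_iff_mem]; exact hF
      · rw [Ideal.span_singleton_le_iff_mem]; exact hF'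
    exact h2 h1

theorem mem_ker (j : Fin (n + 1 + 1)) (x : Γ(CohB1.ProjSpace (n + 1) k, chart (n + 1) k j)) :
    (i.app (chart (n + 1) k j)).hom x = 0 ↔
      x ∈ Ideal.span {dehom F j} ⊔ Ideal.span {dehom F' j} := by
  obtain ⟨p, hp⟩ := (polyToChart_bijective j).2 x
  obtain ⟨d, P, hP, hp'⟩ := Groth.Agent.Lefpen.H397.ConePt.exists_dehom (k := k) j p
  obtain ⟨P', hP'⟩ : ∃ P' : Form (n + 1) k d, P' = ⟨P, hP⟩ := ⟨_, rfl⟩
  have h1 : x = dehom P' j := by
    rw [dehom_eq, hP', hp', hp]
  rw [h1]
  exact mem_ker_aux i F F' h j P'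

theorem ker_eq_sup : i.ker = hypIdeal F ⊔ hypIdeal F' := by
  refine Scheme.IdealSheafData.ext_of_iSup_eq_top
    (fun j : Fin (n + 1 + 1) => ⟨chart (n + 1) k j, isAffineOpen_chart j⟩) iSup_chart fun j => ?_
  rw [Scheme.IdealSheafData.ideal_sup, Pi.sup_apply, hypIdeal_ideal_of_le F j _ le_rfl,
    hypIdeal_ideal_of_le F' j _ le_rfl, Scheme.Hom.ker_apply]
  have h1 : ores (le_refl (chart (n + 1) k j)) (dehom F j) = dehom F j := by
    simp [ores]
  have h2 : ores (le_refl (chart (n + 1) k j)) (dehom F' j) = dehom F' j := by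
    simp [ores]
  refine Ideal.ext fun x => ?_
  rw [RingHom.mem_ker]
  refine (mem_ker i F F' h j x).trans ?_
  change _ ↔ x ∈ Ideal.span {ores (le_refl (chart (n + 1) k j)) (dehom F j)} ⊔
    Ideal.span {ores (le_refl (chart (n + 1) k j)) (dehom F' j)}
  rw [h1, h2]

end Ker

section Main

/-- The dimension of a closed subscheme is that of its image. -/
theorem dim_eq {X Y Z : Scheme.{u}} (f : X ⟶ Z) (g : Y ⟶ Z) [IsClosedImmersion f] [IsClosedImmersion g]
    (h : Set.range f = Set.range g) : topologicalKrullDim X = topologicalKrullDim Y := by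
  have h1 := (f.isClosedEmbedding.isEmbedding.toHomeomorph).isHomeomorph.topologicalKrullDim_eq
  have h2 := (g.isClosedEmbedding.isEmbedding.toHomeomorph).isHomeomorph.topologicalKrullDim_eq
  rw [h1, h2, h]

variable [IsAlgClosed k] {C S T : Scheme.{u}} (iC : C ⟶ CohB1.ProjSpace (n + 1) k)
    (iS : S ⟶ CohB1.ProjSpace (n + 1) k)
    (iT : T ⟶ CohB1.ProjSpace (n + 1) k) [IsClosedImmersion iC] [IsClosedImmersion iS] [IsClosedImmersion iT]
    [IsIntegral C] [IsIntegral S] [IsIntegral T]

omit [IsAlgClosed k] in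
theorem mem_range_iff (x : CohB1.ProjSpace (n + 1) k) : x ∈ Set.range iC ↔ idl (iC (genericPoint C)) ≤ idl x := by
  rw [range_eq iC, ← specializes_iff_mem_closure, specializes_iff]

theorem main (m : ℕ) (hm : 1 ≤ m) (hmn : n = m + 1)
    (hC : topologicalKrullDim C = m) (hS : topologicalKrullDim S = n) (hT : topologicalKrullDim T = n)
    (hset : Set.range iC = Set.range iS ∩ Set.range iT)
    (hreg : ∀ s : S, iS s ∈ Set.range iC → IsRegularLocalRing (S.presheaf.stalk s)) :
    ∃ (T' : Scheme.{u}) (iT' : T' ⟶ CohB1.ProjSpace (n + 1) k) (e : C ≅ pullback iS iT'),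
      IsClosedImmersion iT' ∧ IsIntegral T' ∧ topologicalKrullDim T' = n ∧
        e.hom ≫ pullback.fst iS iT' ≫ iS = iC := by
  obtain ⟨D, F, hF, hFs, eS, heS⟩ := exists_iso iS hS
  obtain ⟨E, H, hH, hHt⟩ := exists_span iT hT
  obtain ⟨c, hc0⟩ : ∃ c, c = iC (genericPoint C) := ⟨_, rfl⟩
  have hFs' : idl (iS (genericPoint S)) = Ideal.span {F.1} := hFs
  have hHt' : idl (iT (genericPoint T)) = Ideal.span {H.1} := hHt
  have hS' : ∀ x : CohB1.ProjSpace (n + 1) k, F.1 ∈ idl x ↔ x ∈ Set.range iS := fun x => by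
    rw [mem_range_iff iS, hFs', Ideal.span_singleton_le_iff_mem]
  have hT' : ∀ x : CohB1.ProjSpace (n + 1) k, H.1 ∈ idl x ↔ x ∈ Set.range iT := fun x => by
    rw [mem_range_iff iT, hHt', Ideal.span_singleton_le_iff_mem]
  have hC' : ∀ x : CohB1.ProjSpace (n + 1) k, idl c ≤ idl x ↔ x ∈ Set.range iC := fun x => by
    rw [mem_range_iff iC, hc0]
  have hc : ∀ x : CohB1.ProjSpace (n + 1) k, (F.1 ∈ idl x ∧ H.1 ∈ idl x) ↔ idl c ≤ idl x := fun x => by
    rw [hC', hset, hS', hT']
    rfl
  have hcS : idl c ≠ Ideal.span {F.1} := by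
    intro h
    have h1 : Set.range iC = Set.range iS := by
      ext x
      rw [← hC', ← hS', h, Ideal.span_singleton_le_iff_mem]
    have h2 := dim_eq iC iS h1
    rw [hC, hS] at h2
    have h3 : m = n := by exact_mod_cast h2
    omega
  have hra : RegAlong F c := by
    intro y hy
    have h1 : iS (eS.inv y) = (ciIdeal (fun _ : Fin 1 => F)).subschemeι y := by
      rw [← heS, ← Scheme.Hom.comp_apply, Iso.inv_hom_id_assoc]
    have h2 : iS (eS.inv y) ∈ Set.range iC := by
      rw [h1, ← hC']
      exact hy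
    have h3 := hreg _ h2
    exact IsRegularLocalRing.of_ringEquiv (asIso (eS.inv.stalkMap y)).commRingCatIsoToRingEquiv
  obtain ⟨e', F', hF', hcF⟩ := exists_form F H c hc hF hH (by omega) hra hcS
  -- the second hypersurface
  have hFI : (Ideal.span {F'.1}).IsHomogeneous (CohB1.polyGrading (n + 1) k) := by
    refine Ideal.homogeneous_span _ _ ?_
    rintro _ rfl
    exact ⟨e', F'.2⟩
  have hFp : (Ideal.span {F'.1}).IsPrime := by
    rw [Ideal.span_singleton_prime hF'.ne_zero]
    exact hF'.prime
  have hle : Ideal.span {F'.1} ≤ idl c := by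
    rw [hcF, Ideal.span_singleton_le_iff_mem]
    exact Ideal.subset_span (by simp)
  obtain ⟨T', iT', hcl, hint, ht⟩ := exists_subscheme (k := k) (K945.Surf.pt c _ hFI hFp hle)
  have hti : (ProjectiveSpectrum.asHomogeneousIdeal (iT' (genericPoint T'))).toIdeal = Ideal.span {F'.1} := by
    rw [ht]
    rfl
  have hkS := ker_eq_hypIdeal iS F hF hFs
  have hkT := ker_eq_hypIdeal iT' F' hF' hti
  have hkC := ker_eq_sup iC F F' (by rw [← hc0]; exact hcF)
  have hkP : (pullback.fst iS iT' ≫ iS).ker = hypIdeal F ⊔ hypIdeal F' := by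
    rw [← Scheme.IdealSheafData.map_ker, Scheme.IdealSheafData.ker_fst_of_isClosedImmersion,
      Groth.Agent.Lefpen.H879.Ker.map_comap_eq, hkS, hkT]
  obtain ⟨e, he⟩ := Groth.Agent.Lefpen.H879.Ker.exists_iso_of_ker_eq iC (pullback.fst iS iT' ≫ iS)
    (hkC.trans hkP.symm)
  refine ⟨T', iT', e, hcl, hint, ?_, he⟩
  -- the dimension
  have hti' : idl (iT' (genericPoint T')) = Ideal.span {F'.1} := hti
  have hrT : ∀ x : CohB1.ProjSpace (n + 1) k, x ∈ Set.range iT' ↔ Ideal.span {F'.1} ≤ idl x := fun x => by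
    rw [mem_range_iff iT', hti']
  refine le_antisymm ?_ ?_
  · by_contra hcon
    have h1 : ((n + 1 : ℕ) : WithBot ℕ∞) ≤ topologicalKrullDim T' := succ_le_of_not_le _ _ hcon
    let g : CohB1.ProjSpace (n + 1) k := gpt k (n + 1)
    have hgI : idl g = ⊥ := HomogeneousIdeal.toIdeal_bot ..
    let Z0 : IrreducibleCloseds (CohB1.ProjSpace (n + 1) k) :=
      ⟨closure {g}, isIrreducible_singleton.closure, isClosed_closure⟩
    have h2 := chain_one iT' iT'.isClosedEmbedding (n + 1) h1 Z0 (fun x _ => (gpt_specializes x).mem_closure) (by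
      intro h
      have h3 : g ∈ Set.range iT' := h (subset_closure rfl)
      rw [hrT, hgI, le_bot_iff, Ideal.span_singleton_eq_bot] at h3
      exact hF'.ne_zero h3)
    have h4 := h2.trans (topologicalKrullDim_le k (n + 1))
    have h5 : n + 1 + 1 ≤ n + 1 := by exact_mod_cast h4
    omega
  · let j : C ⟶ T' := e.hom ≫ pullback.snd iS iT'
    have hj : j ≫ iT' = iC := by
      rw [← he, Category.assoc, pullback.condition]
    have hjc : IsClosedImmersion j := inferInstance
    let Z0 : IrreducibleCloseds T' := ⟨Set.univ, IrreducibleSpace.isIrreducible_univ T', isClosed_univ⟩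
    have h2 := chain_one j j.isClosedEmbedding m hC.ge Z0 (fun x _ => trivial) (by
      intro h
      obtain ⟨x, hx⟩ := h (Set.mem_univ (genericPoint T'))
      have h3 : iT' (genericPoint T') ∈ Set.range iC := ⟨x, by rw [← hx, ← hj]; rfl⟩
      rw [← hC', hti'] at h3
      have h4 : F.1 ∈ Ideal.span {F'.1} := h3 (by
        change F.1 ∈ idl c
        rw [hcF]
        exact Ideal.subset_span (by simp))
      rw [Ideal.mem_span_singleton] at h4
      have h5 := (hF'.dvd_irreducible_iff_associated hF).1 h4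
      apply hcS
      rw [← Ideal.span_singleton_eq_span_singleton.2 h5]
      exact le_antisymm h3 hle)
    rw [hmn]
    exact h2

end Main

end K945.CutGeo
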