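import Groth.Agent.STCI.K945.Tors

/-!
# Roots on a normal cone ring of a complete intersection, exponent the characteristic
-/

set_option autoImplicit false
universe u

open MvPolynomial IsLocalRing Matrix
open scoped Pointwise

namespace K945.RootP2

open Groth.Agent.Lefpen.H718.Reg Groth.Agent.Lefpen.H718.ConeCM Groth.Agent.Lefpen.H718.Grade
  Groth.Agent.Lefpen.H718.Frame Groth.Agent.Lefpen.H938.LocCore Groth.Agent.Lefpen.H938.RootP
  K945.Tors
open Groth.Agent.Lefpen

section Local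

variable {B : Type u} [CommRing B] {d r : ℕ} [IsLocalRing B] [IsNoetherianRing B] [IsDomain B]

/-- Variant of `LocCore.main` with torsion-freeness instead of minors. -/
theorem core (h3 : 3 ≤ LocCoh.depth B B) {f : B} (hf : f ∈ maximalIdeal B) (hf0 : f ≠ 0)
    (J : Matrix (Fin d) (Fin r) B)
    (hinj : ∀ (e : Fin d → B) (z : Fin r → B), e ᵥ* J = f • z → ∃ e', e = f • e')
    (v : Fin r → B) (hv : ∀ q : Ideal B, q.IsPrime → q ≠ maximalIdeal B → ∃ s : B, s ∉ q ∧ s • v ∈ M0 f J) :
    v ∈ M0 f J := by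
  have hnt1 : Nontrivial (QuotSMulTop f B) := by
    rw [Submodule.Quotient.nontrivial_iff]
    intro h
    have h1 : (1 : B) ∈ f • (⊤ : Submodule B B) := by rw [h]; trivial
    obtain ⟨s, -, hs⟩ := h1
    have h2 : f * s = 1 := hs
    exact (mem_maximalIdeal f).1 hf (IsUnit.of_mul_eq_one s h2)
  have hreg1 : IsSMulRegular B f := fun a b hab => mul_left_cancel₀ hf0 hab
  have hd1 := Groth.Agent.Ega4A.DepthBasic.depth_quotSMulTop_add_one (R := B) B hf hreg1
  have hd1' : 2 ≤ LocCoh.depth B (QuotSMulTop f B) := by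
    rw [← hd1] at h3
    have : (2 : ℕ∞) + 1 ≤ LocCoh.depth B (QuotSMulTop f B) + 1 := by
      refine le_trans ?_ h3
      norm_num
    exact (ENat.add_le_add_iff_right (by decide)).1 this
  obtain ⟨x, hx, hxreg⟩ := (Groth.Agent.Ega4A.DepthBasic.one_le_depth_iff (R := B) (QuotSMulTop f B)).1
    (le_trans (by norm_num) hd1')
  obtain ⟨m, hm⟩ := exists_pow_smul_mem (maximalIdeal B) (M0 f J) v hv hx
  have hXreg := hxreg.pow m
  -- make sure the exponent is positive
  obtain ⟨X, hX, hXr, hXv⟩ : ∃ X ∈ maximalIdeal B, IsSMulRegular (QuotSMulTop f B) X ∧ X • v ∈ M0 f J := by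
    refine ⟨x ^ (m + 1), Ideal.pow_mem_of_mem _ hx _ (Nat.succ_pos m), hxreg.pow _, ?_⟩
    rw [pow_succ', mul_smul]
    exact (M0 f J).smul_mem _ hm
  have hnt2 : Nontrivial (QuotSMulTop X (QuotSMulTop f B)) := by
    rw [Submodule.Quotient.nontrivial_iff]
    intro h
    have h5 : (⊤ : Submodule B (QuotSMulTop f B)) ≤ maximalIdeal B • ⊤ := by
      conv_lhs => rw [← h]
      rintro _ ⟨z, -, rfl⟩
      exact Submodule.smul_mem_smul hX trivial
    exact Groth.Agent.Ega4A.DepthBasic.maximalIdeal_smul_top_ne_top (R := B) (QuotSMulTop f B) (top_le_iff.1 h5)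
  have hd2 := Groth.Agent.Ega4A.DepthBasic.depth_quotSMulTop_add_one (R := B) (QuotSMulTop f B) hX hXr
  have hd2' : 1 ≤ LocCoh.depth B (QuotSMulTop X (QuotSMulTop f B)) := by
    rw [← hd2] at hd1'
    have : (1 : ℕ∞) + 1 ≤ LocCoh.depth B (QuotSMulTop X (QuotSMulTop f B)) + 1 := by
      refine le_trans ?_ hd1'
      norm_num
    exact (ENat.add_le_add_iff_right (by decide)).1 this
  obtain ⟨y, hy, hyreg⟩ := (Groth.Agent.Ega4A.DepthBasic.one_le_depth_iff (R := B)
    (QuotSMulTop X (QuotSMulTop f B))).1 hd2'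
  obtain ⟨m', hm'⟩ := exists_pow_smul_mem (maximalIdeal B) (M0 f J) v hv hy
  have hYreg := hyreg.pow m'
  set Y := y ^ m' with hY
  obtain ⟨α, c, h1⟩ := hXv
  obtain ⟨β, c', h2⟩ := hm'
  -- `(X c' - Y c) J ∈ f`
  obtain ⟨ε, hε⟩ := hinj (X • c' - Y • c) (Y • α - X • β) (by
    rw [Matrix.sub_vecMul, Matrix.smul_vecMul, Matrix.smul_vecMul]
    have e1 : c' ᵥ* J = Y • v - f • β := by rw [h2]; abel
    have e2 : c ᵥ* J = X • v - f • α := by rw [h1]; abel
    rw [e1, e2, smul_sub, smul_sub, smul_sub, smul_comm X Y v, smul_comm X f β, smul_comm Y f α]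
    abel)
  have h4 : ∀ i, ∃ s t, c i = f * s + X * t := fun i => by
    refine of_regular₂ hYreg (s := - ε i) (t := c' i) ?_
    have := congrFun hε i
    simp only [Pi.sub_apply, Pi.smul_apply, smul_eq_mul] at this
    linear_combination -this
  choose s t hst using h4
  have hc : c = f • s + X • t := funext hst
  have h5 : ∀ j, ∃ w, (v - t ᵥ* J) j = f * w := fun j => by
    refine of_regular hXr (t := (α + s ᵥ* J) j) ?_
    have h6 : X • (v - t ᵥ* J) = f • (α + s ᵥ* J) := by
      rw [smul_sub, h1, hc, Matrix.add_vecMul, Matrix.smul_vecMul, Matrix.smul_vecMul, smul_add]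
      abel
    exact congrFun h6 j
  choose w hw using h5
  refine ⟨w, t, ?_⟩
  have h7 : v - t ᵥ* J = f • w := funext hw
  rw [← h7]
  abel

end Local

variable {k : Type u} [Field k] {N d : ℕ} (g : Fin d → MvPolynomial (Fin (N + 1)) k)

/-- Torsion-freeness localizes. -/
theorem tf_localization [IsDomain (A g)] (hTF : TF g) (S : Submonoid (A g)) (hS : S ≤ nonZeroDivisors (A g))
    {B : Type u} [CommRing B] [Algebra (A g) B] [IsLocalization S B] (β : B) (hβ : β ≠ 0) (c : Fin d → B)
    (z : Fin (N + 1) → B) (h : c ᵥ* (jac g).map (algebraMap (A g) B) = β • z) : ∃ e : Fin d → B, c = β • e := by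
  have hinj : Function.Injective (algebraMap (A g) B) := IsLocalization.injective B hS
  have hBd : IsDomain B := IsLocalization.isDomain_of_le_nonZeroDivisors _ hS
  obtain ⟨⟨s, hs⟩, hs'⟩ := IsLocalization.exist_integer_multiples_of_finite S
    (Sum.elim (Sum.elim c z) (fun _ : Unit => β))
  have hs0 : s ≠ 0 := nonZeroDivisors.ne_zero (hS hs)
  have hsB0 : algebraMap (A g) B s ≠ 0 := by
    rw [Ne, map_eq_zero_iff _ hinj]; exact hs0
  have hc : ∀ i, ∃ c' : A g, algebraMap (A g) B c' = s • c i := fun i => hs' (Sum.inl (Sum.inl i))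
  have hz : ∀ i, ∃ z' : A g, algebraMap (A g) B z' = s • z i := fun i => hs' (Sum.inl (Sum.inr i))
  have hb : ∃ β' : A g, algebraMap (A g) B β' = s • β := hs' (Sum.inr ())
  choose c' hc' using hc
  choose z' hz' using hz
  obtain ⟨β', hβ'⟩ := hb
  have hβ0 : β' ≠ 0 := by
    rintro rfl
    rw [map_zero, Algebra.smul_def] at hβ'
    exact mul_ne_zero hsB0 hβ hβ'.symm
  have key : (s • c') ᵥ* jac g = β' • z' := by
    funext l
    apply hinj
    have e1 := congrFun h l
    have e2 : algebraMap (A g) B ((c' ᵥ* jac g) l) = algebraMap (A g) B s * (c ᵥ* (jac g).map (algebraMap (A g) B)) l := by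
      rw [congrFun (map_vecMul (B := B) c' (jac g)) l]
      change ∑ i, algebraMap (A g) B (c' i) * _ = algebraMap (A g) B s * ∑ i, c i * _
      rw [Finset.mul_sum]
      refine Finset.sum_congr rfl fun i _ => ?_
      rw [hc' i, Algebra.smul_def, mul_assoc]
    rw [Matrix.smul_vecMul]
    simp only [Pi.smul_apply, smul_eq_mul, map_mul]
    rw [e2, e1, hβ', hz']
    simp only [Pi.smul_apply, smul_eq_mul, Algebra.smul_def]
    ring
  obtain ⟨e, he⟩ := hTF β' hβ0 _ _ key
  refine ⟨fun i => IsLocalization.mk' B (e i) (⟨s, hs⟩ : S), ?_⟩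
  funext i
  have e3 := congrArg (algebraMap (A g) B) (congrFun he i)
  simp only [Pi.smul_apply, smul_eq_mul, map_mul] at e3
  rw [hc' i, hβ', Algebra.smul_def, Algebra.smul_def] at e3
  have e4 : IsLocalization.mk' B (e i) (⟨s, hs⟩ : S) * algebraMap (A g) B s = algebraMap (A g) B (e i) :=
    IsLocalization.mk'_spec B (e i) (⟨s, hs⟩ : S)
  simp only [Pi.smul_apply, smul_eq_mul]
  apply mul_left_cancel₀ hsB0
  apply mul_left_cancel₀ hsB0
  rw [e3, ← e4]
  ring

section CharP

variable (p : ℕ) [Fact p.Prime] [CharP k p]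

omit [Fact p.Prime] in
theorem local_mem [IsDomain (A g)] (hTF : TF g)
    (F : MvPolynomial (Fin (N + 1)) k) (h : LocPow g p (mk g F)) (q : Ideal (A g)) (hq : q.IsPrime)
    (hne : q ≠ irr g) : ∃ s : A g, s ∉ q ∧ s • grad g F ∈ M0 (mk g F) (jac g) := by
  obtain ⟨u, a, b, hu, hb, h1⟩ := h q hq hne
  obtain ⟨U, rfl⟩ := Ideal.Quotient.mk_surjective u
  obtain ⟨A', rfl⟩ := Ideal.Quotient.mk_surjective a
  obtain ⟨B', rfl⟩ := Ideal.Quotient.mk_surjective b
  have h2 : F * B' ^ p - U * A' ^ p ∈ Ideal.span (Set.range g) := by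
    rw [← Ideal.Quotient.eq_zero_iff_mem, map_sub, map_mul, map_mul, map_pow, map_pow, sub_eq_zero]
    exact h1
  obtain ⟨c, hc⟩ := exists_grad_eq g h2
  -- `b^p v - a^p dU = c J`
  have h3 : (mk g B') ^ p • grad g F - (mk g A') ^ p • grad g U = c ᵥ* jac g := by
    rw [← hc]
    funext l
    change (mk g B') ^ p * mk g (pderiv l F) - (mk g A') ^ p * mk g (pderiv l U) = mk g (pderiv l _)
    rw [map_sub, pderiv_mul_pow, pderiv_mul_pow, map_sub, map_mul, map_mul, map_pow, map_pow]
    ring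
  set β := (mk g B') ^ p with hβ
  have hβ0 : β ≠ 0 := pow_ne_zero _ hb
  have h1' : mk g F * β = mk g U * (mk g A') ^ p := h1
  let z : Fin (N + 1) → A g := mk g U • grad g F - mk g F • grad g U
  have h4 : β • z = (mk g U • c) ᵥ* jac g := by
    rw [Matrix.smul_vecMul, ← h3]
    funext l
    change β * (mk g U * grad g F l - mk g F * grad g U l) =
      mk g U * (β * grad g F l - (mk g A') ^ p * grad g U l)
    linear_combination (- grad g U l) * h1'
  obtain ⟨e, he⟩ := hTF β hβ0 _ _ h4.symm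
  have h7 : z = e ᵥ* jac g := by
    funext l
    have h8 : β • z = β • (e ᵥ* jac g) := by
      rw [h4, he, Matrix.smul_vecMul]
    exact mul_left_cancel₀ hβ0 (congrFun h8 l)
  refine ⟨mk g U, hu, grad g U, e, ?_⟩
  rw [← h7]
  change mk g U • grad g F = mk g F • grad g U + (mk g U • grad g F - mk g F • grad g U)
  abel

end CharP

section Main

variable {a : Fin d → ℕ} (hh : ∀ i, (g i).IsHomogeneous (a i)) (hg : ∀ i, constantCoeff (g i) = 0)
  (hht : (d : ℕ∞) ≤ (Ideal.span (Set.range g)).height) [IsDomain (A g)] (hTF : TF g)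
  {n : ℕ} (hN : N = n + d) (hn : 2 ≤ n) (p : ℕ) [Fact p.Prime] [CharP k p]

include hh hg hht hTF hN hn

omit [Fact p.Prime] in
theorem exists_global (F : MvPolynomial (Fin (N + 1)) k) (hF : mk g F ∈ irr g) (hF0 : mk g F ≠ 0)
    (h : LocPow g p (mk g F)) : ∃ s : A g, s ∉ irr g ∧ s • grad g F ∈ M0 (mk g F) (jac g) := by
  have hm := isMaximal_irr g hg
  have hp : (irr g).IsPrime := hm.isPrime
  let B := Localization.AtPrime (irr g)
  have hinj : Function.Injective (algebraMap (A g) B) := algebraMap_injective g hh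
  have hdomB : IsDomain B := IsLocalization.isDomain_localization (irr g).primeCompl_le_nonZeroDivisors
  have hdepth : 3 ≤ LocCoh.depth B B := by
    rw [ConeHt.depth_eq_height g hht (irr g), ConeHt.height_irr g hg hht hN]
    exact_mod_cast (by omega : 3 ≤ n + 1)
  have hne : ∀ 𝔮 : Ideal B, 𝔮 ≠ maximalIdeal B → 𝔮.comap (algebraMap (A g) B) ≠ irr g := by
    intro 𝔮 h1 h2
    apply h1
    rw [← Localization.AtPrime.map_eq_maximalIdeal]
    exact (IsLocalization.map_under (irr g).primeCompl B 𝔮).symm.trans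
      (congrArg (Ideal.map (algebraMap (A g) B)) h2)
  have hf0 : algebraMap (A g) B (mk g F) ≠ 0 := by
    rw [Ne, ← map_zero (algebraMap (A g) B), hinj.eq_iff]
    exact hF0
  have hres := core (B := B) hdepth (f := algebraMap (A g) B (mk g F)) (by
      rw [← Localization.AtPrime.map_eq_maximalIdeal]
      exact Ideal.mem_map_of_mem _ hF) hf0 ((jac g).map (algebraMap (A g) B))
    (fun e z h => tf_localization g hTF (irr g).primeCompl (irr g).primeCompl_le_nonZeroDivisors _ hf0 e z h)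
    (fun l => algebraMap (A g) B (grad g F l)) (fun 𝔮 h𝔮 hne' => by
      obtain ⟨s, hs, hs'⟩ := local_mem g p hTF F h (𝔮.comap (algebraMap (A g) B)) inferInstance (hne 𝔮 hne')
      exact ⟨algebraMap (A g) B s, hs, map_mem_M0 hs'⟩)
  obtain ⟨s, hs, hs'⟩ := exists_of_localization (irr g).primeCompl hinj hres
  exact ⟨s, hs, hs'⟩

end Main

theorem root_p {k : Type u} [Field k] [IsAlgClosed k] {N d n : ℕ} (g : Fin d → MvPolynomial (Fin (N + 1)) k)
    {a : Fin d → ℕ} (hh : ∀ i, (g i).IsHomogeneous (a i)) (hg : ∀ i, constantCoeff (g i) = 0)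
    (hht : (d : ℕ∞) ≤ (Ideal.span (Set.range g)).height) [hdom : IsDomain (A g)] [hic : IsIntegrallyClosed (A g)]
    (hTF : TF g)
    (hN : N = n + d) (hn : 2 ≤ n) (p : ℕ) [Fact p.Prime] [CharP k p]
    (f : A g) (D : ℕ) (hf : Homog g hh D f) (hf0 : f ≠ 0) (h : LocPow g p f) : ∃ w : A g, f = w ^ p := by
  obtain ⟨F, hF, rfl⟩ := (homog_iff g hh).1 hf
  have hperf : PerfectRing k p := inferInstance
  rcases Nat.eq_zero_or_pos D with rfl | hD
  · have h1 : F = C (coeff 0 F) := by
      rw [← MvPolynomial.totalDegree_eq_zero_iff_eq_C]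
      exact Nat.le_zero.1 hF.totalDegree_le
    obtain ⟨b, hb⟩ := surjective_frobenius k p (coeff 0 F)
    refine ⟨mk g (C b), ?_⟩
    rw [h1, ← map_pow, ← C_pow, ← hb, frobenius_def]
  · have hirr : mk g F ∈ irr g := by
      refine Ideal.mem_map_of_mem _ ?_
      rw [span_X_eq_ker, RingHom.mem_ker, constantCoeff_eq]
      exact hF.coeff_eq_zero (by
        intro h0
        rw [map_zero] at h0
        omega)
    obtain ⟨s, hs, hs'⟩ := exists_global g hh hg hht hTF hN hn p F hirr hf0 h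
    obtain ⟨c, hc⟩ := exists_grad_eq_vecMul g hh hF hD hs hs'
    exact exists_pow_eq g p hc

end K945.RootP2
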