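import Groth.Agent.STCI.K945.RootNe2
import Groth.Agent.STCI.K945.RootP2

/-!
# Roots on a normal cone ring, all exponents

`root_all`: `A = k[T]/(g)` a normal domain, `g` one homogeneous equation in at least four variables, `f` homogeneous of
degree `D`, at every prime off the origin a unit times an `l`-th power: `f = w ^ l`, `w` homogeneous, `l * deg w = D`.
-/

set_option autoImplicit false
universe u

open MvPolynomial

namespace K945.RootAll2

open Groth.Agent.Lefpen.H718.Reg Groth.Agent.Lefpen.H718.ConeCM Groth.Agent.Lefpen.H718.Grade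
open Groth.Agent.Lefpen.H718.Frame K945.Tors

theorem root_all_of_TF {k : Type u} [Field k] [IsAlgClosed k] {N d n : ℕ} (g : Fin d → MvPolynomial (Fin (N + 1)) k)
    {a : Fin d → ℕ} (hh : ∀ i, (g i).IsHomogeneous (a i)) (hg : ∀ i, constantCoeff (g i) = 0)
    (hht : (d : ℕ∞) ≤ (Ideal.span (Set.range g)).height) [hdom : IsDomain (A g)] [hic : IsIntegrallyClosed (A g)]
    (hTF : TF g) (hN : N = n + d) (hn : 2 ≤ n) (l : ℕ) (hl : 1 ≤ l) (f : A g) (D : ℕ) (hf : Homog g hh D f)
    (hf0 : f ≠ 0) (h : LocPow g l f) : ∃ (e : ℕ) (w : A g), Homog g hh e w ∧ l * e = D ∧ f = w ^ l := by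
  refine root_of_prime g hh (fun p hp f D hf hf0 h => ?_) l hl f D hf hf0 h
  by_cases hpk : (p : k) = 0
  · obtain ⟨q, hq⟩ := CharP.exists k
    have h1 : q ∣ p := (CharP.cast_eq_zero_iff k q p).1 hpk
    have h2 : q = p := (hp.eq_one_or_self_of_dvd q h1).resolve_left (CharP.char_ne_one k q)
    subst h2
    have : Fact q.Prime := ⟨hp⟩
    exact RootP2.root_p g hh hg hht hTF hN hn q f D hf hf0 h
  · exact RootNe2.root_ne g hh hg hht hN hn p hp.pos hpk f D hf hf0 h

/-- One homogeneous equation, the cone being a domain with `R_1`. -/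
theorem root_all {k : Type u} [Field k] [IsAlgClosed k] {N : ℕ} (g : Fin 1 → MvPolynomial (Fin (N + 1)) k)
    {a : Fin 1 → ℕ} (hh : ∀ i, (g i).IsHomogeneous (a i)) (hg : ∀ i, constantCoeff (g i) = 0)
    (hg0 : g 0 ≠ 0) [hdom : IsDomain (A g)] (hR : LocCoh.HasRk 1 (A g))
    (hN : 3 ≤ N) (l : ℕ) (hl : 1 ≤ l) (f : A g) (D : ℕ) (hf : Homog g hh D f)
    (hf0 : f ≠ 0) (h : LocPow g l f) : ∃ (e : ℕ) (w : A g), Homog g hh e w ∧ l * e = D ∧ f = w ^ l := by
  have hht := ConeHt.one_le_height hg0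
  have hic : IsIntegrallyClosed (A g) := by
    refine IsIntegrallyClosed.of_localization_maximal fun p _ hp => ?_
    exact (ConeHt.normal_localization g hht hR p).2
  exact root_all_of_TF g hh hg hht (tf_of_R1 g hg0 hR) (n := N - 1) (by omega) (by omega) l hl f D hf hf0 h

end K945.RootAll2
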