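import Groth.Agent.STCI.K945.Tors
import Groth.Agent.S2821

/-!
# Elements vanishing along one prime

`A` a Noetherian domain, `P` a prime, `f ∈ P` nonzero, `M` a maximal ideal different from `P` such that every prime
`q ≠ M` containing `f` contains `P` and `A_q` is regular for such `q`. Then `f` is locally away from `M` a unit times
`π ^ m`, `m` independent of the point, and if `f = w ^ m` and `A` has depth at least two at `M` then `P = (w)`.
-/

set_option autoImplicit false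
set_option linter.unusedSectionVars false
set_option linter.unusedVariables false
universe u

open IsLocalRing

namespace K945.UnitPow

variable {A : Type u} [CommRing A] [IsDomain A] [IsNoetherianRing A]

/-- `π` generates `P` at `q` and `f` is a unit times `π ^ n` at `q`. -/
def IsGen (P q : Ideal A) (f π : A) (n : ℕ) : Prop :=
  π ∈ P ∧ (∀ p ∈ P, ∃ t ∉ q, π ∣ t * p) ∧ ∃ u s, u ∉ q ∧ s ∉ q ∧ f * s = u * π ^ n

theorem exists_isGen (P q M : Ideal A) [hP : P.IsPrime] [hq : q.IsPrime] (hM : M.IsMaximal) (hqM : q ≠ M)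
    (hPq : P ≤ q) (f : A) (hf : f ≠ 0) (hfP : f ∈ P)
    (h : ∀ q : Ideal A, q.IsPrime → q ≠ M → f ∈ q → P ≤ q)
    (hreg : IsRegularLocalRing (Localization.AtPrime q)) :
    ∃ π n, IsGen P q f π n := by
  let B := Localization.AtPrime q
  have hinj : Function.Injective (algebraMap A B) := IsLocalization.injective B q.primeCompl_le_nonZeroDivisors
  obtain ⟨hdom, hufd⟩ := Groth.Agent.S2821.result B
  have hdisj : Disjoint (q.primeCompl : Set A) (P : Set A) :=
    Set.disjoint_left.2 fun x hx hxP => hx (hPq hxP)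
  have hPB : (P.map (algebraMap A B)).IsPrime := IsLocalization.isPrime_of_isPrime_disjoint q.primeCompl B P hP hdisj
  have hcomap : (P.map (algebraMap A B)).comap (algebraMap A B) = P :=
    IsLocalization.under_map_of_isPrime_disjoint q.primeCompl B hP hdisj
  set F := algebraMap A B f with hF
  have hF0 : F ≠ 0 := by rwa [hF, Ne, map_eq_zero_iff _ hinj]
  have hFP : F ∈ P.map (algebraMap A B) := Ideal.mem_map_of_mem _ hfP
  -- a prime divisor contains `P`
  have key : ∀ ϖ : B, Prime ϖ → ϖ ∣ F → P.map (algebraMap A B) ≤ Ideal.span {ϖ} := by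
    intro ϖ hϖ hd
    have hp : (Ideal.span {ϖ}).IsPrime := (Ideal.span_singleton_prime hϖ.ne_zero).2 hϖ
    have hle : (Ideal.span {ϖ}).comap (algebraMap A B) ≤ q := by
      intro x hx
      by_contra hxq
      have h1 : IsUnit (algebraMap A B x) := IsLocalization.map_units (M := q.primeCompl) B ⟨x, hxq⟩
      exact hp.ne_top ((Ideal.eq_top_iff_one _).2 (by
        have := Ideal.mul_mem_left (Ideal.span {ϖ}) (↑(h1.unit⁻¹) : B) (Ideal.mem_comap.1 hx)
        rwa [IsUnit.val_inv_mul] at this))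
    have h1 : (Ideal.span {ϖ}).comap (algebraMap A B) ≠ M := by
      intro h2
      rw [h2] at hle
      exact hqM (hM.eq_of_le hq.ne_top hle).symm
    have h2 := h _ (hp.comap (algebraMap A B)) h1 (by
      rw [Ideal.mem_comap, Ideal.mem_span_singleton]; exact hd)
    rw [Ideal.map_le_iff_le_comap]
    exact h2
  -- choose a prime divisor in `P`
  obtain ⟨ϖ, hϖ, hϖF, hϖP⟩ : ∃ ϖ : B, Prime ϖ ∧ ϖ ∣ F ∧ ϖ ∈ P.map (algebraMap A B) := by
    have h3 : ∃ ϖ ∈ UniqueFactorizationMonoid.factors F, ϖ ∈ P.map (algebraMap A B) := by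
      have h4 := UniqueFactorizationMonoid.factors_prod hF0
      have h5 : (UniqueFactorizationMonoid.factors F).prod ∈ P.map (algebraMap A B) := by
        obtain ⟨v, hv⟩ := h4.symm
        rw [← hv]
        exact Ideal.mul_mem_right _ _ hFP
      exact (hPB.multiset_prod_mem_iff_exists_mem _).1 h5
    obtain ⟨ϖ, h6, h7⟩ := h3
    exact ⟨ϖ, UniqueFactorizationMonoid.prime_of_factor _ h6,
      UniqueFactorizationMonoid.dvd_of_mem_factors h6, h7⟩
  have hspan : P.map (algebraMap A B) = Ideal.span {ϖ} :=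
    le_antisymm (key ϖ hϖ hϖF) ((Ideal.span_singleton_le_iff_mem _).2 hϖP)
  -- lift to `A`
  obtain ⟨π, s0, hs0⟩ := IsLocalization.exists_mk'_eq q.primeCompl ϖ
  have hs0u : IsUnit (algebraMap A B s0) := IsLocalization.map_units (M := q.primeCompl) B s0
  have hπ : algebraMap A B π = ϖ * algebraMap A B s0 := by
    rw [← hs0, IsLocalization.mk'_spec]
  have hass : Associated ϖ (algebraMap A B π) := by
    rw [hπ]
    exact (associated_mul_unit_right _ _ hs0u)
  have hπP : π ∈ P := by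
    rw [← hcomap, Ideal.mem_comap, hπ]
    exact Ideal.mul_mem_right _ _ hϖP
  have hπprime : Prime (algebraMap A B π) := hass.prime hϖ
  obtain ⟨n, c, hc, hFc⟩ := WfDvdMonoid.max_power_factor hF0 hπprime.irreducible
  have hcu : IsUnit c := by
    by_contra hcu
    have hc0 : c ≠ 0 := by
      rintro rfl
      rw [mul_zero] at hFc
      exact hF0 hFc
    obtain ⟨ϖ', hϖ', hd⟩ := WfDvdMonoid.exists_irreducible_factor hcu hc0
    have hd' : ϖ' ∣ F := hd.trans (Dvd.intro_left _ hFc.symm)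
    have h8 := key ϖ' hϖ'.prime hd'
    have h9 : algebraMap A B π ∈ Ideal.span {ϖ'} := h8 (Ideal.mem_map_of_mem _ hπP)
    rw [Ideal.mem_span_singleton] at h9
    have h10 : Associated ϖ' (algebraMap A B π) := (hϖ'.prime.dvd_prime_iff_associated hπprime).1 h9
    exact hc (h10.symm.dvd.trans hd)
  refine ⟨π, n, hπP, ?_, ?_⟩
  · intro p hp
    have h1 : algebraMap A B p ∈ Ideal.span {ϖ} := by
      rw [← hspan]
      exact Ideal.mem_map_of_mem _ hp
    rw [Ideal.mem_span_singleton] at h1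
    obtain ⟨y, hy⟩ := hass.symm.dvd.trans h1
    obtain ⟨b, t, rfl⟩ := IsLocalization.exists_mk'_eq q.primeCompl y
    refine ⟨t, t.2, b, ?_⟩
    apply hinj
    rw [map_mul, map_mul, hy, mul_comm, mul_assoc, IsLocalization.mk'_spec]
  · obtain ⟨u, s, rfl⟩ := IsLocalization.exists_mk'_eq q.primeCompl c
    refine ⟨u, s, ?_, s.2, ?_⟩
    · intro hu
      exact (IsLocalization.AtPrime.isUnit_mk'_iff B q u s).1 hcu hu
    · apply hinj
      rw [map_mul, map_mul, map_pow, ← hF, hFc, mul_assoc, IsLocalization.mk'_spec, mul_comm]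

theorem pow_unique_aux {P : Ideal A} [hP : P.IsPrime] {f π π₀ : A} {n m : ℕ} (hf : f ≠ 0) {t : A} (ht : t ∉ P)
    (hd : π ∣ t * π₀) (hπ : π ∈ P) {u s u₀ s₀ : A} (hu : u ∉ P) (hs : s ≠ 0) (h : f * s = u * π ^ n)
    (hs₀ : s₀ ∉ P) (h₀ : f * s₀ = u₀ * π₀ ^ m) : m ≤ n := by
  by_contra hlt
  push Not at hlt
  obtain ⟨a, ha⟩ := hd
  have hπ0 : π ^ n ≠ 0 := by
    intro h0
    rw [h0, mul_zero] at h
    exact mul_ne_zero hf hs h
  obtain ⟨e, he⟩ : ∃ e, m = n + (e + 1) := ⟨m - n - 1, by omega⟩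
  have h1 : π ^ n * (u * s₀ * t ^ m) = π ^ n * (u₀ * s * a ^ m * π ^ (e + 1)) := by
    have h2 : t ^ m * π₀ ^ m = π ^ n * (π ^ (e + 1) * a ^ m) := by
      rw [← mul_pow, ha, mul_pow, he, pow_add π, mul_assoc]
    calc π ^ n * (u * s₀ * t ^ m) = (u * π ^ n) * s₀ * t ^ m := by ring
      _ = (f * s₀) * s * t ^ m := by rw [← h]; ring
      _ = u₀ * s * (t ^ m * π₀ ^ m) := by rw [h₀]; ring
      _ = _ := by rw [h2]; ring
  have h2 := mul_left_cancel₀ hπ0 h1
  have h3 : u * s₀ * t ^ m ∈ P := by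
    rw [h2]
    exact Ideal.mul_mem_left _ _ (Ideal.pow_mem_of_mem _ hπ _ (Nat.succ_pos e))
  rcases hP.mem_or_mem h3 with h4 | h4
  · rcases hP.mem_or_mem h4 with h5 | h5
    · exact hu h5
    · exact hs₀ h5
  · exact ht (hP.mem_of_pow_mem _ h4)

theorem pow_unique {P q : Ideal A} [hP : P.IsPrime] (hPq : P ≤ q) {f π π₀ : A} {n m : ℕ} (hf : f ≠ 0)
    (h : IsGen P q f π n) (h₀ : IsGen P P f π₀ m) : n = m := by
  obtain ⟨hπ, hg, u, s, hu, hs, e⟩ := h
  obtain ⟨hπ₀, hg₀, u₀, s₀, hu₀, hs₀, e₀⟩ := h₀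
  have hs' : s ∉ P := fun h => hs (hPq h)
  have hu' : u ∉ P := fun h => hu (hPq h)
  obtain ⟨t, ht, hd⟩ := hg π₀ hπ₀
  obtain ⟨t₀, ht₀, hd₀⟩ := hg₀ π hπ
  refine le_antisymm ?_ ?_
  · exact pow_unique_aux hf ht₀ hd₀ hπ₀ hu₀ (ne_of_mem_of_not_mem P.zero_mem hs₀).symm e₀ hs' e
  · exact pow_unique_aux hf (fun h => ht (hPq h)) hd hπ hu' (ne_of_mem_of_not_mem P.zero_mem hs').symm e hs₀ e₀

/-- The exponent. -/
theorem exists_exponent (P M : Ideal A) [hP : P.IsPrime] (hM : M.IsMaximal) (hPM : P ≠ M)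
    (f : A) (hf : f ≠ 0) (hfP : f ∈ P)
    (h : ∀ q : Ideal A, q.IsPrime → q ≠ M → f ∈ q → P ≤ q)
    (hreg : ∀ (q : Ideal A) [q.IsPrime], q ≠ M → P ≤ q → IsRegularLocalRing (Localization.AtPrime q)) :
    ∃ m : ℕ, 1 ≤ m ∧ ∀ (q : Ideal A) [q.IsPrime], q ≠ M → P ≤ q → ∃ π, IsGen P q f π m := by
  obtain ⟨π₀, m, h₀⟩ := exists_isGen P P M hM hPM le_rfl f hf hfP h (hreg P hPM le_rfl)
  refine ⟨m, ?_, fun q hq hqM hPq => ?_⟩
  · rw [Nat.one_le_iff_ne_zero]
    rintro rfl
    obtain ⟨-, -, u, s, hu, -, e⟩ := h₀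
    rw [pow_zero, mul_one] at e
    exact hu (e ▸ P.mul_mem_right s hfP)
  · obtain ⟨π, n, h1⟩ := exists_isGen P q M hM hqM hPq f hf hfP h (hreg q hqM hPq)
    rw [pow_unique hPq hf h1 h₀] at h1
    exact ⟨π, h1⟩

/-- Away from `M`, `f` is locally a unit times an `m`-th power. -/
theorem locPow (P M : Ideal A) [hP : P.IsPrime] (f : A) (hfP : f ∈ P)
    (h : ∀ q : Ideal A, q.IsPrime → q ≠ M → f ∈ q → P ≤ q) {m : ℕ} (hm : 1 ≤ m)
    (hgen : ∀ (q : Ideal A) [q.IsPrime], q ≠ M → P ≤ q → ∃ π, IsGen P q f π m)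
    (q : Ideal A) (hq : q.IsPrime) (hqM : q ≠ M) :
    ∃ u a b : A, u ∉ q ∧ b ≠ 0 ∧ f * b ^ m = u * a ^ m := by
  by_cases hfq : f ∈ q
  · obtain ⟨π, -, -, u, s, hu, hs, e⟩ := hgen q hqM (h q hq hqM hfq)
    obtain ⟨m', rfl⟩ : ∃ m', m = m' + 1 := ⟨m - 1, by omega⟩
    refine ⟨u * s ^ m', π, s, ?_, ?_, ?_⟩
    · intro hmem
      rcases hq.mem_or_mem hmem with h1 | h1
      · exact hu h1
      · exact hs (hq.mem_of_pow_mem _ h1)
    · rintro rfl
      exact hs q.zero_mem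
    · rw [pow_succ s, mul_comm (s ^ m') s, ← mul_assoc, e]
      ring
  · exact ⟨f, 1, 1, hfq, one_ne_zero, by rw [one_pow]⟩

/-- The root generates `P`. -/
theorem eq_span (P M : Ideal A) [hP : P.IsPrime] (f : A) (hf : f ≠ 0) (hfP : f ∈ P)
    (h : ∀ q : Ideal A, q.IsPrime → q ≠ M → f ∈ q → P ≤ q)
    (hreg : ∀ (q : Ideal A) [q.IsPrime], q ≠ M → P ≤ q → IsRegularLocalRing (Localization.AtPrime q)) {m : ℕ}
    (hm : 1 ≤ m) (hgen : ∀ (q : Ideal A) [q.IsPrime], q ≠ M → P ≤ q → ∃ π, IsGen P q f π m)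
    (hdepth : ∀ [M.IsPrime], 2 ≤ LocCoh.depth (Localization.AtPrime M) (Localization.AtPrime M))
    (w : A) (hw : f = w ^ m) : P = Ideal.span {w} := by
  have hwP : w ∈ P := hP.mem_of_pow_mem m (hw ▸ hfP)
  have hw0 : w ≠ 0 := by
    rintro rfl
    rw [zero_pow (by omega)] at hw
    exact hf hw
  refine le_antisymm ?_ ((Ideal.span_singleton_le_iff_mem _).2 hwP)
  intro p hp
  rw [Ideal.mem_span_singleton]
  refine K945.Tors.dvd_of_forall hw0 fun q hq hd => ?_
  have hqM : q ≠ M := by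
    rintro rfl
    exact hd hdepth
  by_cases hfq : f ∈ q
  · have hPq := h q hq hqM hfq
    have hr := hreg q hqM hPq
    obtain ⟨π, hπ, hg, u, s, hu, hs, e⟩ := hgen q hqM hPq
    let B := Localization.AtPrime q
    have hinj : Function.Injective (algebraMap A B) := IsLocalization.injective B q.primeCompl_le_nonZeroDivisors
    obtain ⟨hdom, hufd⟩ := Groth.Agent.S2821.result B
    have hic : IsIntegrallyClosed B := inferInstance
    have hsu : IsUnit (algebraMap A B s) := IsLocalization.map_units (M := q.primeCompl) B ⟨s, hs⟩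
    have huu : IsUnit (algebraMap A B u) := IsLocalization.map_units (M := q.primeCompl) B ⟨u, hu⟩
    have e1 := congrArg (algebraMap A B) e
    rw [hw, map_mul, map_mul, map_pow, map_pow] at e1
    have h1 : (algebraMap A B w) ^ m ∣ (algebraMap A B π) ^ m := by
      have h2 : (algebraMap A B w) ^ m ∣ algebraMap A B u * (algebraMap A B π) ^ m := Dvd.intro _ e1
      exact (huu.dvd_mul_left).1 h2
    have h2 : algebraMap A B w ∣ algebraMap A B π := (IsIntegrallyClosed.pow_dvd_pow_iff (by omega)).1 h1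
    obtain ⟨y, hy⟩ := h2
    obtain ⟨b, t, rfl⟩ := IsLocalization.exists_mk'_eq q.primeCompl y
    have h3 : w ∣ t * π := by
      refine ⟨b, ?_⟩
      apply hinj
      rw [map_mul, map_mul, hy, mul_comm, mul_assoc, IsLocalization.mk'_spec]
    obtain ⟨t₁, ht₁, h4⟩ := hg p hp
    refine ⟨t * t₁, fun h5 => ?_, ?_⟩
    · rcases hq.mem_or_mem h5 with h6 | h6
      · exact t.2 h6
      · exact ht₁ h6
    · rw [mul_assoc]
      exact h3.trans (mul_dvd_mul_left _ h4)
  · refine ⟨w, fun h1 => hfq ?_, dvd_mul_right _ _⟩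
    rw [hw]
    exact Ideal.pow_mem_of_mem _ h1 _ (by omega)

end K945.UnitPow
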