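import Groth.Agent.STCI.K945.JacCone
import Groth.Agent.STCI.K945.UnitPow
import Groth.Agent.STCI.K945.RootAll2

/-!
# A curve which is a set-theoretic intersection of two hypersurfaces, one regular along it

`F`, `H` irreducible forms, `c` a point of `P^{n+1}` with `V(F) ∩ V(H) = closure {c}` such that `V(F)` is regular at the
points of `closure {c}`: there is an irreducible form `F'` such that the prime of `c` is `(F, F')`.
-/

set_option autoImplicit false
set_option linter.unusedSectionVars false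
universe u

open CategoryTheory AlgebraicGeometry Limits TopologicalSpace Opposite MvPolynomial

namespace K945.Cut

open LefPen Groth.Agent.Lefpen.H705.ChartPoly Groth.Agent.Lefpen.H705.HypIdeal
open Groth.Agent.Lefpen.H718.ConeCM Groth.Agent.Lefpen.H718.Grade Groth.Agent.Lefpen.H718.Chart
open Groth.Agent.Lefpen.H718.Reg Groth.Agent.Lefpen.H718.Frame
open Groth.Agent.Sga5 Groth.Agent.Lefpen.H397.ConePt Groth.Agent.Lefpen.H397.ConeField
open K945.GrCore K945.JacCone

variable {k : Type u} [Field k] {n D E : ℕ} (F : Form (n + 1) k D) (H : Form (n + 1) k E)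
  (hF : Irreducible F.1) (hH : Irreducible H.1)

set_option quotPrecheck false in
local notation "𝐆" => (fun _ : Fin 1 => F)
set_option quotPrecheck false in
local notation "𝐠" => (fun _ : Fin 1 => F.1)
set_option quotPrecheck false in
local notation "𝐀" => A (fun _ : Fin 1 => F.1)

include hF in
theorem isDomain_A : IsDomain 𝐀 := by
  have h1 : Ideal.span (Set.range fun _ : Fin 1 => F.1) = Ideal.span {F.1} := by
    rw [Set.range_const]
  have h2 : (Ideal.span (Set.range fun _ : Fin 1 => F.1)).IsPrime := by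
    rw [h1, Ideal.span_singleton_prime hF.ne_zero]
    exact hF.prime
  exact (Ideal.Quotient.isDomain_iff_prime _).2 h2

include hF in
theorem degree_pos : D ≠ 0 := by
  rintro rfl
  exact hF.not_isUnit (K945.HomFac.isUnit_of_isHomogeneous_zero F.2 hF.ne_zero)

theorem constantCoeff_of_pos {D : ℕ} (hD : D ≠ 0) {p : MvPolynomial (Fin (n + 1 + 1)) k} (hp : p.IsHomogeneous D) :
    constantCoeff p = 0 := by
  by_contra hc
  rw [constantCoeff_eq] at hc
  have := hp hc
  simp at this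
  exact hD this.symm

include hF in
theorem constantCoeff_eq_zero (i : Fin 1) : constantCoeff (𝐠 i) = 0 :=
  constantCoeff_of_pos (degree_pos F hF) F.2

theorem mk_mem_irr {D : ℕ} (hD : D ≠ 0) {p : MvPolynomial (Fin (n + 1 + 1)) k} (hp : p.IsHomogeneous D) :
    mk 𝐠 p ∈ irr 𝐠 := by
  refine Ideal.mem_map_of_mem _ ?_
  rw [span_X_eq_ker, RingHom.mem_ker]
  exact constantCoeff_of_pos hD hp

theorem hh (i : Fin 1) : (𝐠 i).IsHomogeneous D := F.2

include hF in
theorem isMax : (irr 𝐠).IsMaximal := isMaximal_irr 𝐠 (constantCoeff_eq_zero F hF)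

theorem mk_F : mk 𝐠 F.1 = 0 := Ideal.Quotient.eq_zero_iff_mem.2 (Ideal.subset_span ⟨0, rfl⟩)

theorem mk_eq_zero_iff {p : MvPolynomial (Fin (n + 1 + 1)) k} : mk 𝐠 p = 0 ↔ F.1 ∣ p := by
  rw [← Ideal.mem_span_singleton]
  have h1 : Ideal.span (Set.range fun _ : Fin 1 => F.1) = Ideal.span {F.1} := by
    rw [Set.range_const]
  rw [← h1]
  exact Ideal.Quotient.eq_zero_iff_mem

include hF in
theorem height_irr_eq : (irr 𝐠).height = (n + 1 : ℕ) :=
  ConeHt.height_irr 𝐠 (constantCoeff_eq_zero F hF) (ConeHt.one_le_height (g := 𝐠) hF.ne_zero) rfl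

/-- The prime of a point. -/
noncomputable abbrev idl (x : CohB1.ProjSpace (n + 1) k) : Ideal (MvPolynomial (Fin (n + 1 + 1)) k) :=
  (ProjectiveSpectrum.asHomogeneousIdeal x).toIdeal

variable (c : CohB1.ProjSpace (n + 1) k)
  (hc : ∀ x : CohB1.ProjSpace (n + 1) k, (F.1 ∈ idl x ∧ H.1 ∈ idl x) ↔ idl c ≤ idl x)
  (hne : idl c ≠ Ideal.span {F.1})

/-- The hypersurface is regular at the points of the closure of `c`. -/
def RegAlong : Prop :=
  ∀ y : Y 𝐆, idl c ≤ idl (yι 𝐆 y) → IsRegularLocalRing ((Y 𝐆).presheaf.stalk y)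

/-- The prime of the cone ring. -/
noncomputable abbrev PP : Ideal 𝐀 := (idl c).map (mk 𝐠)

include hc

theorem F_mem : F.1 ∈ idl c := ((hc c).2 le_rfl).1

theorem H_mem : H.1 ∈ idl c := ((hc c).2 le_rfl).2

theorem ker_le : RingHom.ker (mk 𝐠) ≤ idl c := by
  rw [Ideal.mk_ker, Ideal.span_le]
  rintro _ ⟨i, rfl⟩
  exact F_mem F H c hc

theorem comap_PP : (PP F c).comap (mk 𝐠) = idl c := by
  rw [PP, Ideal.comap_map_of_surjective' _ Ideal.Quotient.mk_surjective, sup_eq_left]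
  exact ker_le F H c hc

theorem isPrime_PP : (PP F c).IsPrime := by
  have h1 : (idl c).IsPrime := c.isPrime
  exact Ideal.map_isPrime_of_surjective Ideal.Quotient.mk_surjective (ker_le F H c hc)

theorem f_mem : mk 𝐠 H.1 ∈ PP F c := Ideal.mem_map_of_mem _ (H_mem F H c hc)

include hne in
theorem f_ne_zero (hF : Irreducible F.1) : mk 𝐠 H.1 ≠ 0 := by
  intro h0
  rw [mk_eq_zero_iff] at h0
  apply hne
  refine le_antisymm ?_ ((Ideal.span_singleton_le_iff_mem _).2 (F_mem F H c hc))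
  have hFI : (Ideal.span {F.1}).IsHomogeneous (CohB1.polyGrading (n + 1) k) := by
    refine Ideal.homogeneous_span _ _ ?_
    rintro _ rfl
    exact ⟨D, F.2⟩
  have hFp : (Ideal.span {F.1}).IsPrime := by
    rw [Ideal.span_singleton_prime hF.ne_zero]
    exact hF.prime
  let y : CohB1.ProjSpace (n + 1) k := K945.Surf.pt c _ hFI hFp
    ((Ideal.span_singleton_le_iff_mem _).2 (F_mem F H c hc))
  have hyI : idl y = Ideal.span {F.1} := rfl
  rw [← hyI, ← hc y, hyI, Ideal.mem_span_singleton, Ideal.mem_span_singleton]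
  exact ⟨dvd_rfl, h0⟩

theorem PP_ne_irr : PP F c ≠ irr 𝐠 := by
  intro h
  obtain ⟨j, hj⟩ := Groth.Agent.PerfB.ProjSpaceCover.exists_mem_basicOpen_X (n + 1) k c
  apply hj
  change X j ∈ idl c
  rw [← comap_PP F H c hc, h, Ideal.mem_comap]
  exact mk_mem_irr F one_ne_zero (isHomogeneous_X k j)

theorem star (hF : Irreducible F.1) (q : Ideal 𝐀) (hq : q.IsPrime) (hqi : q ≠ irr 𝐠) (hf : mk 𝐠 H.1 ∈ q) :
    PP F c ≤ q := by
  have h1 : idl c ≤ idl (pt (hh F) (isMax F hF) q hqi) := by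
    rw [← hc]
    rw [mem_pt_iff (hh F) (isMax F hF) q hqi F.2, mem_pt_iff (hh F) (isMax F hF) q hqi H.2, mk_F]
    exact ⟨q.zero_mem, hf⟩
  have h2 : idl (pt (hh F) (isMax F hF) q hqi) = (core (hh F) q).comap (mk 𝐠) := rfl
  rw [h2] at h1
  rw [PP, Ideal.map_le_iff_le_comap]
  exact h1.trans (Ideal.comap_mono (core_le _ q))

omit hc in
theorem exists_pt (x : CohB1.ProjSpace (n + 1) k) (hFx : F.1 ∈ idl x) : ∃ y : Y 𝐆, yι 𝐆 y = x := by
  have h2 : x ∈ (ciIdeal 𝐆).support := by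
    rw [Groth.Agent.Lefpen.H716.CIGeom.mem_support_ciIdeal_iff]
    intro _ h3
    exact h3 hFx
  rw [← SetLike.mem_coe, ← Scheme.IdealSheafData.range_subschemeι] at h2
  exact h2

theorem exists_pderiv_pt [PerfectField k] (hreg : RegAlong F c) (hF : Irreducible F.1) (x : CohB1.ProjSpace (n + 1) k)
    (hFx : F.1 ∈ idl x) (hHx : H.1 ∈ idl x) : ∃ l, pderiv l F.1 ∉ idl x := by
  obtain ⟨y, hy⟩ := exists_pt F x hFx
  have h1 : idl c ≤ idl x := (hc x).1 ⟨hFx, hHx⟩
  rw [← hy] at h1 ⊢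
  exact exists_pderiv_of_stalk F hF.ne_zero y (hreg y h1)

theorem exists_pderiv [PerfectField k] (hreg : RegAlong F c) (hF : Irreducible F.1) (q : Ideal 𝐀) (hq : q.IsPrime) (hqi : q ≠ irr 𝐠)
    (hf : mk 𝐠 H.1 ∈ q) : ∃ l, mk 𝐠 (pderiv l F.1) ∉ q := by
  obtain ⟨l, hl⟩ := exists_pderiv_pt F H c hc hreg hF (pt (hh F) (isMax F hF) q hqi)
    ((mem_pt_iff (hh F) (isMax F hF) q hqi F.2).2 (by rw [mk_F]; exact q.zero_mem))
    ((mem_pt_iff (hh F) (isMax F hF) q hqi H.2).2 hf)
  exact ⟨l, fun h3 => hl ((mem_pt_iff (hh F) (isMax F hF) q hqi (IsHomogeneous.pderiv F.2)).2 h3)⟩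

theorem regular_at [PerfectField k] (hreg : RegAlong F c) (hF : Irreducible F.1) (q : Ideal 𝐀) [hq : q.IsPrime] (hqi : q ≠ irr 𝐠)
    (hf : PP F c ≤ q) : IsRegularLocalRing (Localization.AtPrime q) := by
  obtain ⟨l, hl⟩ := exists_pderiv F H c hc hreg hF q hq hqi (hf (f_mem F H c hc))
  exact regular_of_pderiv 𝐠 q l hl

end K945.Cut
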