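import Groth.Agent.STCI.K945.Cut

/-!
# The second equation
-/

set_option autoImplicit false
set_option linter.unusedSectionVars false
universe u

open CategoryTheory AlgebraicGeometry Limits TopologicalSpace Opposite MvPolynomial

namespace K945.Cut

open LefPen Groth.Agent.Lefpen.H705.ChartPoly Groth.Agent.Lefpen.H705.HypIdeal
open Groth.Agent.Lefpen.H718.ConeCM Groth.Agent.Lefpen.H718.Grade Groth.Agent.Lefpen.H718.Chart
open Groth.Agent.Lefpen.H718.Reg Groth.Agent.Lefpen.H718.Frame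
open Groth.Agent.Sga5 Groth.Agent.Lefpen.H397.ConePt Groth.Agent.Lefpen.H397.ConeField
open K945.GrCore K945.JacCone

/-- Krull's principal ideal theorem modulo a prime. -/
theorem krull_aux {R : Type u} [CommRing R] [IsNoetherianRing R] (p M : Ideal R) [hp : p.IsPrime] [hM : M.IsPrime]
    (h : p ≤ M) (f : R) (hf : f ∈ M) (honly : ∀ q' : Ideal R, q'.IsPrime → p ≤ q' → f ∈ q' → q' = M) :
    (M.map (Ideal.Quotient.mk p)).height ≤ 1 := by
  have hIp : (M.map (Ideal.Quotient.mk p)).IsPrime := Groth.Agent.VarietyB.DimRing.isPrime_map_quotient h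
  let I : Ideal (R ⧸ p) := Ideal.span {Ideal.Quotient.mk p f}
  have hmin : M.map (Ideal.Quotient.mk p) ∈ I.minimalPrimes := by
    refine ⟨⟨hIp, ?_⟩, ?_⟩
    · rw [Ideal.span_singleton_le_iff_mem]
      exact Ideal.mem_map_of_mem _ hf
    · rintro J ⟨hJ, hJ'⟩ -
      rw [Ideal.span_singleton_le_iff_mem] at hJ'
      have h1 : J.comap (Ideal.Quotient.mk p) = M := by
        refine honly _ (Ideal.IsPrime.comap _) ?_ hJ'
        intro x hx
        rw [Ideal.mem_comap, Ideal.Quotient.eq_zero_iff_mem.2 hx]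
        exact J.zero_mem
      rw [← h1, Ideal.map_comap_of_surjective _ Ideal.Quotient.mk_surjective]
  have : I.IsPrincipal := ⟨⟨_, rfl⟩⟩
  exact Ideal.height_le_one_of_isPrincipal_of_mem_minimalPrimes I _ hmin

/-- Dimension count. -/
theorem dim_aux (k : Type u) [Field k] {R : Type u} [CommRing R] [IsDomain R] [Algebra k R] [Algebra.FiniteType k R]
    (p M : Ideal R) [hp : p.IsPrime] (hM : M.IsMaximal) (h : p ≤ M) (f : R) (hf : f ∈ M)
    (honly : ∀ q' : Ideal R, q'.IsPrime → p ≤ q' → f ∈ q' → q' = M) (n : ℕ) (hn : M.height = (n : ℕ))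
    (h1 : p.height ≤ 1) : n ≤ 2 := by
  have hnoeth : IsNoetherianRing R := Algebra.FiniteType.isNoetherianRing k R
  have hmp : M.IsPrime := hM.isPrime
  have h0 := krull_aux p M h f hf honly
  have h2 := Groth.Agent.VarietyB.DimRing.height_quotient_add_dim k h
  have h3 := Groth.Agent.Ega4B.DimFT2.height_add_dim k R p
  have h4 : (M.height : WithBot ℕ∞) ≤ ringKrullDim R := Ideal.height_le_ringKrullDim_of_ne_top hmp.ne_top
  have h5 : ringKrullDim (R ⧸ M) = 0 := by
    let _ : Field (R ⧸ M) := Ideal.Quotient.field _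
    exact ringKrullDim_eq_zero_of_field _
  rw [hn, ← h3, ← h2, h5, add_zero] at h4
  have h7 : ((n : ℕ) : WithBot ℕ∞) ≤ ((2 : ℕ) : WithBot ℕ∞) := by
    refine h4.trans ?_
    have h8 : p.height + (M.map (Ideal.Quotient.mk p)).height ≤ ((2 : ℕ) : ℕ∞) := (add_le_add h1 h0).trans (by norm_num)
    rw [← WithBot.coe_add]
    exact WithBot.coe_le_coe.mpr h8
  exact_mod_cast h7

variable {k : Type u} [Field k] {n D E : ℕ} (F : Form (n + 1) k D) (H : Form (n + 1) k E)

set_option quotPrecheck false in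
local notation "𝐆" => (fun _ : Fin 1 => F)
set_option quotPrecheck false in
local notation "𝐠" => (fun _ : Fin 1 => F.1)
set_option quotPrecheck false in
local notation "𝐀" => A (fun _ : Fin 1 => F.1)

variable (c : CohB1.ProjSpace (n + 1) k)
  (hc : ∀ x : CohB1.ProjSpace (n + 1) k, (F.1 ∈ idl x ∧ H.1 ∈ idl x) ↔ idl c ≤ idl x)

include hc

theorem hasRk_one [PerfectField k] (hF : Irreducible F.1) (hH : Irreducible H.1) (hn : 2 ≤ n)
    (hreg : RegAlong F c) : LocCoh.HasRk 1 𝐀 := by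
  intro q hq hq1
  by_cases h : ∃ l, mk 𝐠 (pderiv l F.1) ∉ q
  · obtain ⟨l, hl⟩ := h
    exact regular_of_pderiv 𝐠 q l hl
  exfalso
  push Not at h
  have hdom := isDomain_A F hF
  have hm := isMax F hF
  have hmp : (irr 𝐠).IsPrime := hm.isPrime
  obtain ⟨qs, hqs⟩ : ∃ qs : Ideal 𝐀, qs = core (hh F) q := ⟨_, rfl⟩
  have hqsp : qs.IsPrime := by rw [hqs]; infer_instance
  have hqsq : qs ≤ q := by rw [hqs]; exact core_le _ _
  have hder : ∀ l, mk 𝐠 (pderiv l F.1) ∈ qs := fun l => by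
    rw [hqs]
    exact mem_core_of_homog (hh F) (homog_mk 𝐠 (hh F) (IsHomogeneous.pderiv F.2)) (h l)
  have hqi : qs ≤ irr 𝐠 := by rw [hqs]; exact core_le_irr _ hq.ne_top
  have hfi : mk 𝐠 H.1 ∈ irr 𝐠 := mk_mem_irr F (degree_pos H hH) H.2
  have honly : ∀ q' : Ideal 𝐀, q'.IsPrime → qs ≤ q' → mk 𝐠 H.1 ∈ q' → q' = irr 𝐠 := by
    intro q' hq' hle hf
    by_contra hcon
    obtain ⟨l, hl⟩ := exists_pderiv F H c hc hreg hF q' hq' hcon hf
    exact hl (hle (hder l))
  have h7 := dim_aux k qs (irr 𝐠) hm hqi (mk 𝐠 H.1) hfi honly (n + 1) (height_irr_eq F hF)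
    ((Ideal.height_mono hqsq).trans (by exact_mod_cast hq1))
  omega

theorem exists_form [IsAlgClosed k] (hF : Irreducible F.1) (hH : Irreducible H.1) (hn : 2 ≤ n)
    (hreg : RegAlong F c) (hne : idl c ≠ Ideal.span {F.1}) :
    ∃ (e : ℕ) (F' : Form (n + 1) k e), Irreducible F'.1 ∧ idl c = Ideal.span {F.1, F'.1} := by
  have hdom := isDomain_A F hF
  have hm := isMax F hF
  have hR := hasRk_one F H c hc hF hH hn hreg
  have hPp := isPrime_PP F H c hc
  have hfP := f_mem F H c hc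
  have hf0 := f_ne_zero F H c hc hne hF
  have hPi := PP_ne_irr F H c hc
  have hstar := star F H c hc hF
  have hregA : ∀ (q : Ideal 𝐀) [q.IsPrime], q ≠ irr 𝐠 → PP F c ≤ q → IsRegularLocalRing (Localization.AtPrime q) :=
    fun q _ h1 h2 => regular_at F H c hc hreg hF q h1 h2
  obtain ⟨m, hm1, hgen⟩ := K945.UnitPow.exists_exponent (PP F c) (irr 𝐠) hm hPi (mk 𝐠 H.1) hf0 hfP hstar hregA
  have hloc : LocPow 𝐠 m (mk 𝐠 H.1) := fun q hq hqi =>
    K945.UnitPow.locPow (PP F c) (irr 𝐠) (mk 𝐠 H.1) hfP hstar hm1 hgen q hq hqi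
  obtain ⟨e, w, hw, -, hfw⟩ := K945.RootAll2.root_all 𝐠 (hh F) (constantCoeff_eq_zero F hF) hF.ne_zero hR
    (by omega) m hm1 (mk 𝐠 H.1) E (homog_mk 𝐠 (hh F) H.2) hf0 hloc
  have hspan : PP F c = Ideal.span {w} := by
    refine K945.UnitPow.eq_span (PP F c) (irr 𝐠) (mk 𝐠 H.1) hf0 hfP hstar hregA hm1 hgen ?_ w hfw
    intro hip
    rw [ConeHt.depth_eq_height 𝐠 (ConeHt.one_le_height (g := 𝐠) hF.ne_zero) (irr 𝐠), height_irr_eq F hF]
    have : 2 ≤ n + 1 := by omega
    exact_mod_cast this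
  obtain ⟨F', hF', hF'w⟩ := (homog_iff 𝐠 (hh F)).1 hw
  have hw0 : w ≠ 0 := by
    rintro rfl
    rw [zero_pow (by omega)] at hfw
    exact hf0 hfw
  have hF'0 : F' ≠ 0 := by
    rintro rfl
    rw [map_zero] at hF'w
    exact hw0 hF'w.symm
  refine ⟨e, ⟨F', hF'⟩, ?_, ?_⟩
  · -- irreducibility
    have key : ∀ a b : MvPolynomial (Fin (n + 1 + 1)) k, F' = a * b → mk 𝐠 a ∈ PP F c → IsUnit b := by
      intro a b hab ha
      rw [hab] at hF'
      obtain ⟨m1, m2, -, hb, -⟩ := K945.HomFac.isHomogeneous_of_mul hF' (hab ▸ hF'0)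
      have hb0 : b ≠ 0 := by
        rintro rfl
        exact hF'0 (by rw [hab, mul_zero])
      rw [hspan, Ideal.mem_span_singleton] at ha
      obtain ⟨x, hx⟩ := ha
      have h1 : w * 1 = w * (x * mk 𝐠 b) := by
        rw [mul_one, ← mul_assoc, ← hx, ← map_mul, ← hab, hF'w]
      have h2 := mul_left_cancel₀ hw0 h1
      have hm2 : m2 = 0 := by
        by_contra hm2
        have h3 := mk_mem_irr F hm2 hb
        exact hm.ne_top ((Ideal.eq_top_iff_one _).2 (h2 ▸ Ideal.mul_mem_left _ _ h3))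
      rw [hm2] at hb
      exact K945.HomFac.isUnit_of_isHomogeneous_zero hb hb0
    refine ⟨?_, ?_⟩
    · intro hu
      have h1 : mk 𝐠 F' ∈ PP F c := by
        rw [hF'w, hspan]
        exact Ideal.mem_span_singleton_self _
      exact hPp.ne_top ((PP F c).eq_top_of_isUnit_mem h1 (hu.map _))
    · intro a b hab
      have hab' : F' = a * b := hab
      have h1 : mk 𝐠 a * mk 𝐠 b ∈ PP F c := by
        rw [← map_mul, ← hab', hF'w, hspan]
        exact Ideal.mem_span_singleton_self _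
      rcases hPp.mem_or_mem h1 with h2 | h2
      · exact Or.inr (key a b hab' h2)
      · exact Or.inl (key b a (by rw [hab', mul_comm]) h2)
  · -- the ideal
    rw [← comap_PP F H c hc, hspan]
    ext p
    rw [Ideal.mem_comap, Ideal.mem_span_singleton, Ideal.mem_span_pair]
    constructor
    · rintro ⟨x, hx⟩
      obtain ⟨x, rfl⟩ := Ideal.Quotient.mk_surjective x
      have h1 : mk 𝐠 (p - F' * x) = 0 := by
        rw [map_sub, map_mul, hF'w, hx, sub_self]
      rw [mk_eq_zero_iff] at h1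
      obtain ⟨y, hy⟩ := h1
      exact ⟨y, x, by linear_combination -hy⟩
    · rintro ⟨y, x, rfl⟩
      rw [map_add, map_mul, map_mul, mk_F, mul_zero, zero_add, hF'w]
      exact dvd_mul_left _ _

end K945.Cut
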