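import Groth.Agent.STCI.K945.Surf
import Groth.Agent.Lefpen.H397.ConeField

/-!
# The homogeneous core of a prime of the cone and the corresponding point of projective space
-/

set_option autoImplicit false
set_option linter.unusedSectionVars false
universe u

open CategoryTheory AlgebraicGeometry Limits TopologicalSpace Opposite MvPolynomial

namespace K945.GrCore

open LefPen Groth.Agent.Lefpen.H705.ChartPoly Groth.Agent.Lefpen.H705.HypIdeal
open Groth.Agent.Lefpen.H718.ConeCM Groth.Agent.Lefpen.H718.Grade Groth.Agent.Lefpen.H718.Chart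
open Groth.Agent.Sga5 Groth.Agent.Lefpen.H397.ConePt Groth.Agent.Lefpen.H397.ConeField

variable {k : Type u} [Field k] {N d : ℕ} {g : Fin d → MvPolynomial (Fin (N + 1)) k} {a : Fin d → ℕ}
  (hh : ∀ i, (g i).IsHomogeneous (a i))

/-- The homogeneous core of an ideal of the cone ring. -/
noncomputable def core (q : Ideal (A g)) : Ideal (A g) := (q.map Polynomial.C).comap (delta g hh)

theorem mem_core_iff {q : Ideal (A g)} {x : A g} : x ∈ core hh q ↔ ∀ n, (delta g hh x).coeff n ∈ q := by
  rw [core, Ideal.mem_comap, Ideal.mem_map_C_iff]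

theorem core_le (q : Ideal (A g)) : core hh q ≤ q := by
  intro x hx
  rw [mem_core_iff] at hx
  rw [← eval_delta g hh x, Polynomial.eval_eq_sum_range]
  exact q.sum_mem fun n _ => by rw [one_pow, mul_one]; exact hx n

instance (q : Ideal (A g)) [q.IsPrime] : (core hh q).IsPrime := Ideal.IsPrime.comap _

theorem mem_core_of_homog {q : Ideal (A g)} {x : A g} {D : ℕ} (hx : Homog g hh D x) (h : x ∈ q) : x ∈ core hh q := by
  rw [mem_core_iff]
  intro n
  rw [Homog] at hx
  rw [hx, Polynomial.coeff_C_mul]
  exact q.mul_mem_right _ h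

theorem coeff_mem_core {q : Ideal (A g)} {x : A g} (h : x ∈ core hh q) (n : ℕ) : (delta g hh x).coeff n ∈ core hh q := by
  refine mem_core_of_homog hh (homog_coeff g hh x n) ?_
  rw [mem_core_iff] at h
  exact h n

theorem core_le_irr {q : Ideal (A g)} (hq : q ≠ ⊤) : core hh q ≤ irr g := by
  intro x hx
  by_contra hcon
  rw [mem_core_iff] at hx
  exact hq (q.eq_top_of_isUnit_mem (hx 0) (delta_coeff_zero_unit g hh x hcon))

theorem eq_irr_of_core (hm : (irr g).IsMaximal) {q : Ideal (A g)} (hq : q ≠ ⊤) (h : core hh q = irr g) : q = irr g :=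
  (hm.eq_of_le hq (h ▸ core_le hh q)).symm

theorem isHomogeneous_comap_core (q : Ideal (A g)) :
    ((core hh q).comap (mk g)).IsHomogeneous (CohB1.polyGrading N k) := by
  intro n p hp
  have h2 : ((DirectSum.decompose (CohB1.polyGrading N k) p n : CohB1.polyGrading N k n) :
      MvPolynomial (Fin (N + 1)) k) = homogeneousComponent n p :=
    MvPolynomial.decomposition.decompose'_apply p n
  rw [h2, Ideal.mem_comap, ← deltaS_coeff]
  exact coeff_mem_core hh hp n

/-- The point of projective space below a prime of the cone different from the origin. -/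
noncomputable def pt (hm : (irr g).IsMaximal) (q : Ideal (A g)) [hq : q.IsPrime] (hqi : q ≠ irr g) :
    CohB1.ProjSpace N k :=
  (⟨⟨(core hh q).comap (mk g), isHomogeneous_comap_core hh q⟩, Ideal.IsPrime.comap _, fun h => hqi (by
    have h1 : ∀ j, Ideal.Quotient.mk (Ideal.span (Set.range g)) (X j) ∈ core hh q := by
      intro j
      have h2 : (X j : MvPolynomial (Fin (N + 1)) k) ∈ HomogeneousIdeal.irrelevant (CohB1.polyGrading N k) := by
        rw [HomogeneousIdeal.mem_irrelevant_iff, GradedRing.proj_apply]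
        exact DirectSum.decompose_of_mem_ne _ (X_mem N k j) one_ne_zero
      exact h h2
    exact eq_irr_of_core hh hm hq.ne_top (eq_irr g (core hh q) hm h1))⟩ :
    ProjectiveSpectrum (CohB1.polyGrading N k))

theorem pt_ideal (hm : (irr g).IsMaximal) (q : Ideal (A g)) [hq : q.IsPrime] (hqi : q ≠ irr g) :
    (ProjectiveSpectrum.asHomogeneousIdeal (pt hh hm q hqi)).toIdeal = (core hh q).comap (mk g) := rfl

theorem mem_pt_iff (hm : (irr g).IsMaximal) (q : Ideal (A g)) [hq : q.IsPrime] (hqi : q ≠ irr g) {D : ℕ}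
    {p : MvPolynomial (Fin (N + 1)) k} (hp : p.IsHomogeneous D) :
    p ∈ (ProjectiveSpectrum.asHomogeneousIdeal (pt hh hm q hqi)).toIdeal ↔ mk g p ∈ q := by
  rw [pt_ideal, Ideal.mem_comap]
  exact ⟨fun h => core_le hh q h, fun h => mem_core_of_homog hh (homog_mk g hh hp) h⟩

end K945.GrCore
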