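import Groth.Agent.STCI.K945.JacHt

/-!
# Torsion-freeness of the module of differentials of a cone with `R_1`
-/

set_option autoImplicit false
universe u

open MvPolynomial IsLocalRing Matrix
open scoped Pointwise

namespace K945.Tors

open Groth.Agent.Lefpen.H718.Reg Groth.Agent.Lefpen.H718.ConeCM Groth.Agent.Lefpen.H718.Grade
open Groth.Agent.Lefpen.H938.LocCore Groth.Agent.Lefpen.H938.RootP

/-- A prime associated to a principal ideal of a Noetherian domain has local ring of depth at most one. -/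
theorem not_two_le_depth {A : Type u} [CommRing A] [IsDomain A] [IsNoetherianRing A] {β : A} (hβ : β ≠ 0)
    (q : Ideal A) [hq : q.IsPrime] (y : A) (h : ∀ a, a ∈ q ↔ β ∣ a * y) :
    ¬ 2 ≤ LocCoh.depth (Localization.AtPrime q) (Localization.AtPrime q) := by
  intro h2
  let B := Localization.AtPrime q
  have hinj : Function.Injective (algebraMap A B) :=
    IsLocalization.injective B q.primeCompl_le_nonZeroDivisors
  have hdom : IsDomain B := IsLocalization.isDomain_localization q.primeCompl_le_nonZeroDivisors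
  have hβq : β ∈ q := (h β).2 (Dvd.intro _ rfl)
  set f := algebraMap A B β with hf
  have hfm : f ∈ maximalIdeal B := by
    rw [← Localization.AtPrime.map_eq_maximalIdeal]
    exact Ideal.mem_map_of_mem _ hβq
  have hf0 : f ≠ 0 := by
    rw [hf, Ne, map_eq_zero_iff _ hinj]
    exact hβ
  have hreg1 : IsSMulRegular B f := fun a b hab => mul_left_cancel₀ hf0 hab
  have hnt1 : Nontrivial (QuotSMulTop f B) := by
    rw [Submodule.Quotient.nontrivial_iff]
    intro h
    have h1 : (1 : B) ∈ f • (⊤ : Submodule B B) := by rw [h]; trivial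
    obtain ⟨s, -, hs⟩ := h1
    have h2 : f * s = 1 := hs
    exact (mem_maximalIdeal f).1 hfm (IsUnit.of_mul_eq_one s h2)
  have hd1 := Groth.Agent.Ega4A.DepthBasic.depth_quotSMulTop_add_one (R := B) B hfm hreg1
  have hd1' : 1 ≤ LocCoh.depth B (QuotSMulTop f B) := by
    rw [← hd1] at h2
    have : (1 : ℕ∞) + 1 ≤ LocCoh.depth B (QuotSMulTop f B) + 1 := by
      refine le_trans ?_ h2
      norm_num
    exact (ENat.add_le_add_iff_right (by decide)).1 this
  obtain ⟨x, hx, hxreg⟩ := (Groth.Agent.Ega4A.DepthBasic.one_le_depth_iff (R := B) (QuotSMulTop f B)).1 hd1'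
  obtain ⟨a, s, rfl⟩ := IsLocalization.exists_mk'_eq q.primeCompl x
  have ha : a ∈ q := (IsLocalization.AtPrime.mk'_mem_maximal_iff B q a s).1 hx
  obtain ⟨t, ht⟩ := (h a).1 ha
  obtain ⟨z, hz⟩ := of_regular hxreg (z := algebraMap A B y) (t := IsLocalization.mk' B t s) (by
    rw [mul_comm, IsLocalization.mul_mk'_eq_mk'_of_mul, hf, IsLocalization.mul_mk'_eq_mk'_of_mul, mul_comm y a, ht])
  obtain ⟨b, s', rfl⟩ := IsLocalization.exists_mk'_eq q.primeCompl z
  rw [hf, IsLocalization.mul_mk'_eq_mk'_of_mul, IsLocalization.eq_mk'_iff_mul_eq, ← map_mul] at hz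
  have h3 := hinj hz
  exact s'.2 ((h _).2 ⟨b, by rw [mul_comm, h3]⟩)

/-- Division by a nonzero element of a Noetherian domain can be tested at the primes of depth at most one. -/
theorem dvd_of_forall {A : Type u} [CommRing A] [IsDomain A] [IsNoetherianRing A] {β c : A} (hβ : β ≠ 0)
    (h : ∀ q : Ideal A, ∀ [q.IsPrime], ¬ 2 ≤ LocCoh.depth (Localization.AtPrime q) (Localization.AtPrime q) →
      ∃ s ∉ q, β ∣ s * c) : β ∣ c := by
  by_contra hcon
  have hc : (Ideal.Quotient.mk (Ideal.span {β}) c) ≠ 0 := by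
    rw [Ne, Ideal.Quotient.eq_zero_iff_mem, Ideal.mem_span_singleton]
    exact hcon
  obtain ⟨P, hP, hle⟩ := exists_le_isAssociatedPrime_of_isNoetherianRing A _ hc
  have hPp := hP.isPrime
  obtain ⟨-, y, hy⟩ := (Submodule.isAssociatedPrime_iff (N := (⊥ : Submodule A (A ⧸ Ideal.span {β})))).1 hP
  obtain ⟨y, rfl⟩ := Ideal.Quotient.mk_surjective y
  have hmem : ∀ (y a : A), a ∈ (⊥ : Submodule A (A ⧸ Ideal.span {β})).colon {Ideal.Quotient.mk (Ideal.span {β}) y} ↔
      β ∣ a * y := by
    intro y a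
    rw [Submodule.mem_colon_singleton, Submodule.mem_bot, ← Ideal.mem_span_singleton,
      ← Ideal.Quotient.eq_zero_iff_mem, map_mul]
    rfl
  obtain ⟨s, hs, hsc⟩ := h P (not_two_le_depth hβ P y (fun a => by rw [← hmem, ← hy]))
  exact hs (hle ((hmem c s).2 hsc))

variable {k : Type u} [Field k] {N d : ℕ}

/-- The cokernel of the transposed Jacobian matrix of the equations, over the cone ring, is torsion-free. -/
def TF (g : Fin d → MvPolynomial (Fin (N + 1)) k) : Prop :=
  ∀ β : A g, β ≠ 0 → ∀ (c : Fin d → A g) (z : Fin (N + 1) → A g), c ᵥ* jac g = β • z → ∃ e : Fin d → A g, c = β • e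

theorem exists_pderiv_notMem [PerfectField k] (g : Fin 1 → MvPolynomial (Fin (N + 1)) k) (hg0 : g 0 ≠ 0)
    (q : Ideal (A g)) [hq : q.IsPrime] [hreg : IsRegularLocalRing (Localization.AtPrime q)] :
    ∃ l, jac g 0 l ∉ q := by
  by_contra hcon
  push Not at hcon
  let P := q.comap (Ideal.Quotient.mk (Ideal.span (Set.range g)))
  have hFP : g 0 ∈ P := g_mem g q 0
  have h1 := JacHt.mem_sq P (g 0) hFP hcon
  obtain ⟨e⟩ := nonempty_quotient_equiv (MvPolynomial (Fin (N + 1)) k) (Ideal.span (Set.range g)) q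
  have h2 : (Ideal.span (Set.range g)).map (algebraMap (MvPolynomial (Fin (N + 1)) k) (Localization.AtPrime P)) =
      Ideal.span {algebraMap (MvPolynomial (Fin (N + 1)) k) (Localization.AtPrime P) (g 0)} := by
    rw [Ideal.map_span, ← Set.range_comp]
    congr 1
    ext x
    simp [eq_comm]
  have h3 := ConeHt.ringKrullDim_add g (ConeHt.one_le_height hg0) q
  let e' := e.trans (Ideal.quotEquivOfEq h2)
  have h4 : IsRegularLocalRing (Localization.AtPrime P ⧸
      Ideal.span {algebraMap (MvPolynomial (Fin (N + 1)) k) (Localization.AtPrime P) (g 0)}) :=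
    IsRegularLocalRing.of_ringEquiv e'
  refine JacHt.notMem_sq _ ?_ h1
  rw [← ringKrullDim_eq_of_ringEquiv e']
  exact_mod_cast h3

/-- One equation and `R_1`. -/
theorem tf_of_R1 [PerfectField k] (g : Fin 1 → MvPolynomial (Fin (N + 1)) k) (hg0 : g 0 ≠ 0) [IsDomain (A g)]
    (hR : LocCoh.HasRk 1 (A g)) : TF g := by
  intro β hβ c z hcz
  have h1 : β ∣ c 0 := by
    refine dvd_of_forall hβ fun q hq h => ?_
    rw [ConeHt.depth_eq_height g (ConeHt.one_le_height hg0) q, not_le] at h
    have h2 : q.height ≤ 1 := Order.le_of_lt_add_one (by simpa [one_add_one_eq_two] using h)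
    have h3 : IsRegularLocalRing (Localization.AtPrime q) := hR q h2
    obtain ⟨l, hl⟩ := exists_pderiv_notMem g hg0 q
    refine ⟨jac g 0 l, hl, z l, ?_⟩
    have h4 := congrFun hcz l
    have h5 : (c ᵥ* jac g) l = c 0 * jac g 0 l := by
      change ∑ i, c i * jac g i l = _
      simp
    rw [h5] at h4
    rw [mul_comm, h4]
    rfl
  obtain ⟨e, he⟩ := h1
  refine ⟨fun _ => e, ?_⟩
  funext i
  rw [Subsingleton.elim i 0]
  exact he

end K945.Tors
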