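import Groth.Agent.STCI.K945.GrCore
import Groth.Agent.STCI.K945.Tors
import Groth.Agent.Lefpen.H705.HypSmooth
import Groth.Agent.VarietyB.DimRing

/-!
# The Jacobian criterion on a hypersurface and on its cone
-/

set_option autoImplicit false
set_option linter.unusedSectionVars false
universe u

open CategoryTheory AlgebraicGeometry Limits TopologicalSpace Opposite MvPolynomial

namespace K945.JacCone

open LefPen Groth.Agent.Lefpen.H705.ChartPoly Groth.Agent.Lefpen.H705.HypIdeal
open Groth.Agent.Lefpen.H718.ConeCM Groth.Agent.Lefpen.H718.Grade Groth.Agent.Lefpen.H718.Chart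
open Groth.Agent.Lefpen.H718.Reg
open Groth.Agent.Sga5 Groth.Agent.Lefpen.H397.ConePt Groth.Agent.Lefpen.H397.ConeField

/-- A cone is regular where a partial derivative does not vanish. -/
theorem regular_of_pderiv {k : Type u} [Field k] {N : ℕ} (g : Fin 1 → MvPolynomial (Fin (N + 1)) k) (q : Ideal (A g))
    [q.IsPrime] (l : Fin (N + 1)) (hl : mk g (pderiv l (g 0)) ∉ q) : IsRegularLocalRing (Localization.AtPrime q) := by
  let P := q.comap (Ideal.Quotient.mk (Ideal.span (Set.range g)))
  have hP : ∀ i, g i ∈ P := g_mem g q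
  have hlin : LinearIndependent P.ResidueField (fun i : Fin 1 => fun l : Fin (N + 1) =>
      algebraMap (MvPolynomial (Fin (N + 1)) k) P.ResidueField (pderiv l (g i))) := by
    refine LinearIndependent.of_subsingleton 0 ?_
    intro h
    have h1 := congrFun h l
    have h2 : pderiv l (g 0) ∈ P := by
      rw [← Ideal.algebraMap_residueField_eq_zero]
      exact h1
    exact hl h2
  obtain ⟨h1, h2⟩ := regular_quotient P (ι := Fin 1) g hP hlin
  have h3 : Ideal.span (Set.range fun i => algebraMap (MvPolynomial (Fin (N + 1)) k) (Localization.AtPrime P) (g i)) =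
      (Ideal.span (Set.range g)).map (algebraMap _ (Localization.AtPrime P)) := by
    rw [Ideal.map_span, ← Set.range_comp]
    rfl
  rw [h3] at h1 h2
  obtain ⟨e⟩ := nonempty_quotient_equiv (MvPolynomial (Fin (N + 1)) k) (Ideal.span (Set.range g)) q
  exact IsRegularLocalRing.of_ringEquiv e.symm

section Stalk

variable {k : Type u} [Field k] [PerfectField k] {n D : ℕ} (F : Form (n + 1) k D)

/-- A point of a hypersurface. -/
local notation "GF" => (fun _ : Fin 1 => F)

theorem exists_pderiv_of_stalk (hF : F.1 ≠ 0) (y : Y GF) (hreg : IsRegularLocalRing ((Y GF).presheaf.stalk y)) :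
    ∃ l : Fin (n + 1 + 1), pderiv l F.1 ∉ (ProjectiveSpectrum.asHomogeneousIdeal (yι GF y)).toIdeal := by
  obtain ⟨j, hj⟩ := Groth.Agent.Lefpen.H716.CIGeom.exists_affine_nhd (yι GF y)
  have hy : y ∈ ychart GF j := hj
  set g' : Fin 1 → MvPolynomial (Fin (n + 1)) k := fun _ => ProjChart.dehom (n + 1) k j F.1 with hg'
  have hg0 : g' 0 ≠ 0 := by
    intro h0
    apply hF
    refine K945.Dehom.dehom_inj j F.2 (isHomogeneous_zero _ _ _) ?_
    rw [map_zero]
    exact h0
  have hker : Ideal.span (Set.range g') = RingHom.ker (toY GF j) := (ker_toY GF j).symm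
  let E : A g' ≃+* Γ(Y GF, ychart GF j) :=
    (Ideal.quotEquivOfEq hker).trans (RingHom.quotientKerEquivOfSurjective (toY_surjective GF j))
  have hE : ∀ p, E (mk g' p) = toY GF j p := fun p => rfl
  have hU := isAffineOpen_ychart GF j
  set 𝔮 := (hU.primeIdealOf ⟨y, hy⟩).asIdeal with h𝔮
  have h𝔮p : 𝔮.IsPrime := (hU.primeIdealOf ⟨y, hy⟩).isPrime
  let _ : Algebra Γ(Y GF, ychart GF j) ((Y GF).presheaf.stalk y) :=
    TopCat.Presheaf.algebra_section_stalk (Y GF).presheaf ⟨y, hy⟩
  have hloc : IsLocalization.AtPrime ((Y GF).presheaf.stalk y) 𝔮 := hU.isLocalization_stalk ⟨y, hy⟩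
  let q' : Ideal (A g') := 𝔮.comap E.toRingHom
  have hq' : q'.IsPrime := Ideal.IsPrime.comap _
  have hM : q'.primeCompl.map E.toMonoidHom = 𝔮.primeCompl := by
    ext x
    constructor
    · rintro ⟨z, hz, rfl⟩
      exact hz
    · intro hx
      obtain ⟨z, rfl⟩ := E.surjective x
      exact ⟨z, hx, rfl⟩
  let e := IsLocalization.ringEquivOfRingEquiv (Localization.AtPrime q') ((Y GF).presheaf.stalk y) E hM
  have hreg' : IsRegularLocalRing (Localization.AtPrime q') := IsRegularLocalRing.of_ringEquiv e.symm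
  obtain ⟨l, hl⟩ := K945.Tors.exists_pderiv_notMem g' hg0 q'
  refine ⟨j.succAbove l, fun hmem => hl ?_⟩
  change E (mk g' (pderiv l (g' 0))) ∈ 𝔮
  rw [hE, hg']
  change toY GF j (pderiv l (ProjChart.dehom (n + 1) k j F.1)) ∈ 𝔮
  rw [Groth.Agent.Lefpen.H705.HypSmooth.pderiv_dehom]
  by_contra hcon
  have h1 : IsUnit (algebraMap Γ(Y GF, ychart GF j) ((Y GF).presheaf.stalk y)
      (toY GF j (ProjChart.dehom (n + 1) k j (pderiv (j.succAbove l) F.1)))) :=
    IsLocalization.map_units (M := 𝔮.primeCompl) _ ⟨_, hcon⟩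
  have h2 : y ∈ (Y GF).basicOpen (toY GF j (ProjChart.dehom (n + 1) k j (pderiv (j.succAbove l) F.1))) := by
    rw [Scheme.mem_basicOpen _ _ _ hy]
    exact h1
  obtain ⟨P', hP'⟩ : ∃ P' : Form (n + 1) k (D - 1), P' = ⟨pderiv (j.succAbove l) F.1, IsHomogeneous.pderiv F.2⟩ :=
    ⟨_, rfl⟩
  have h3 : toY GF j (ProjChart.dehom (n + 1) k j (pderiv (j.succAbove l) F.1)) =
      ((yι GF).app (chart (n + 1) k j)).hom (LefPen.dehom P' j) := by
    rw [dehom_eq, hP']
    rfl
  rw [h3, ← Scheme.Hom.preimage_basicOpen] at h2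
  have h4 : yι GF y ∈ (CohB1.ProjSpace (n + 1) k).basicOpen (LefPen.dehom P' j) := h2
  rw [Groth.Agent.Lefpen.H716.CIGeom.mem_basicOpen_dehom_iff P' j _ hj] at h4
  apply h4
  rw [hP']
  exact hmem

end Stalk

end K945.JacCone
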