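import Groth.Agent.STCI.K945.ConeHt
import Groth.Agent.Ega41.SepExt
import Groth.Agent.Lefpen.H938.RootP
import Mathlib.RingTheory.Smooth.Kaehler

/-!
# The Jacobian criterion at a regular point of a hypersurface (perfect ground field)
-/

set_option autoImplicit false
universe u

open MvPolynomial IsLocalRing TensorProduct

namespace K945.JacHt

open Groth.Agent.Lefpen.H718.Reg Groth.Agent.Lefpen.H718.ConeCM Groth.Agent.Lefpen.H718.Grade

theorem D_eq {k R : Type*} [CommRing k] [CommRing R] [Algebra k R] {n : ℕ} (φ : MvPolynomial (Fin n) k →ₐ[k] R)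
    (P : MvPolynomial (Fin n) k) :
    KaehlerDifferential.D k R (φ P) = ∑ l, φ (pderiv l P) • KaehlerDifferential.D k R (φ (X l)) := by
  induction P using MvPolynomial.induction_on with
  | C c =>
    have h1 : φ (C c) = algebraMap k R c := φ.commutes c
    rw [h1, Derivation.map_algebraMap, Finset.sum_eq_zero]
    intro l _
    rw [pderiv_C, map_zero, zero_smul]
  | add P Q hP hQ =>
    rw [map_add, map_add, hP, hQ, ← Finset.sum_add_distrib]
    refine Finset.sum_congr rfl fun l _ => ?_
    rw [map_add, map_add, add_smul]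
  | mul_X P j hP =>
    rw [map_mul, Derivation.leibniz, hP]
    have h1 : ∀ l, φ (pderiv l (P * X j)) • KaehlerDifferential.D k R (φ (X l)) =
        φ P • (φ (pderiv l (X j)) • KaehlerDifferential.D k R (φ (X l))) +
        φ (X j) • (φ (pderiv l P) • KaehlerDifferential.D k R (φ (X l))) := by
      intro l
      rw [Derivation.leibniz, smul_eq_mul, smul_eq_mul, map_add, map_mul, map_mul, add_smul, mul_smul, mul_smul]
    rw [Finset.sum_congr rfl fun l _ => h1 l, Finset.sum_add_distrib, ← Finset.smul_sum, ← Finset.smul_sum]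
    congr 2
    rw [Finset.sum_eq_single j]
    · rw [pderiv_X_self, map_one, one_smul]
    · intro l _ hl
      rw [pderiv_X_of_ne hl.symm, map_zero, zero_smul]
    · intro h
      exact absurd (Finset.mem_univ j) h

/-- Over a perfect field: an element of `P` all of whose partial derivatives lie in `P` lies in `P² S_P`. -/
theorem mem_sq {k : Type u} [Field k] [PerfectField k] {n : ℕ} (P : Ideal (MvPolynomial (Fin n) k)) [P.IsPrime]
    (F : MvPolynomial (Fin n) k) (hF : F ∈ P) (h : ∀ l, pderiv l F ∈ P) :
    algebraMap (MvPolynomial (Fin n) k) (Localization.AtPrime P) F ∈ maximalIdeal (Localization.AtPrime P) ^ 2 := by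
  let S := MvPolynomial (Fin n) k
  let R := Localization.AtPrime P
  let K := ResidueField R
  have h1 : Algebra.FormallySmooth S R := Algebra.FormallySmooth.of_isLocalization P.primeCompl
  have h2 : Algebra.FormallySmooth k R := Algebra.FormallySmooth.comp k S R
  have h3 : Algebra.FormallySmooth k K := Groth.Agent.Ega41.SepExt.formallySmooth_of_perfectField _ _
  have hs : Function.Surjective (algebraMap R K) := residue_surjective
  obtain ⟨l, hl⟩ := (Algebra.FormallySmooth.iff_split_injection (R := k) (P := R) (A := K) hs).1 h3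
  have hinj : Function.Injective (KaehlerDifferential.kerCotangentToTensor k R K) := by
    intro x y hxy
    have := congrArg l hxy
    rw [← LinearMap.comp_apply, ← LinearMap.comp_apply, hl] at this
    exact this
  have hker : RingHom.ker (algebraMap R K) = maximalIdeal R := IsLocalRing.ker_residue
  have hmem : algebraMap S R F ∈ RingHom.ker (algebraMap R K) := by
    rw [hker, ← Localization.AtPrime.map_eq_maximalIdeal]
    exact Ideal.mem_map_of_mem _ hF
  have h0 : KaehlerDifferential.kerCotangentToTensor k R K (Ideal.toCotangent _ ⟨algebraMap S R F, hmem⟩) = 0 := by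
    rw [KaehlerDifferential.kerCotangentToTensor_toCotangent]
    have e1 := D_eq (IsScalarTower.toAlgHom k S R) F
    have e2 : KaehlerDifferential.D k R (algebraMap S R F) =
      ∑ l, algebraMap S R (pderiv l F) • KaehlerDifferential.D k R (algebraMap S R (X l)) := e1
    change (1 : K) ⊗ₜ[R] KaehlerDifferential.D k R (algebraMap S R F) = 0
    rw [e2, TensorProduct.tmul_sum]
    refine Finset.sum_eq_zero fun l _ => ?_
    have e3 : algebraMap R K (algebraMap S R (pderiv l F)) = 0 := by
      rw [← RingHom.mem_ker, hker, ← Localization.AtPrime.map_eq_maximalIdeal]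
      exact Ideal.mem_map_of_mem _ (h l)
    have e4 : ∀ (r : R) (y : Ω[R⁄k]), (1 : K) ⊗ₜ[R] (r • y) = (r • (1 : K)) ⊗ₜ[R] y := fun r y =>
      (TensorProduct.smul_tmul r (1 : K) y).symm
    refine (e4 (algebraMap S R (pderiv l F)) (KaehlerDifferential.D k R (algebraMap S R (X l)))).trans ?_
    rw [Algebra.smul_def, e3, zero_mul, TensorProduct.zero_tmul]
  have h4 := hinj (h0.trans (map_zero _).symm)
  have h5 : algebraMap S R F ∈ RingHom.ker (algebraMap R K) ^ 2 := (Ideal.toCotangent_eq_zero _ _).1 h4
  rw [hker] at h5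
  exact h5

/-- In a local Noetherian ring `R`, if `R/(F)` is regular of dimension `dim R - 1` then `F ∉ m²`. -/
theorem notMem_sq {R : Type*} [CommRing R] [IsLocalRing R] [IsNoetherianRing R] (F : R)
    [hreg : IsRegularLocalRing (R ⧸ Ideal.span {F})] (hdim : ringKrullDim (R ⧸ Ideal.span {F}) + 1 = ringKrullDim R) :
    F ∉ maximalIdeal R ^ 2 := by
  intro hF
  have h1 := hreg.spanFinrank_maximalIdeal
  have hfg : (maximalIdeal (R ⧸ Ideal.span {F})).FG := (isNoetherianRing_iff_ideal_fg _).1 inferInstance _
  obtain ⟨s, hs, hs'⟩ := Submodule.FG.exists_span_finset_card_eq_spanFinrank hfg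
  classical
  let σ : R ⧸ Ideal.span {F} → R := Function.surjInv Ideal.Quotient.mk_surjective
  have hσ : ∀ x, Ideal.Quotient.mk (Ideal.span {F}) (σ x) = x := Function.surjInv_eq Ideal.Quotient.mk_surjective
  have hmap : (Ideal.span (s.image σ : Set R)).map (Ideal.Quotient.mk (Ideal.span {F})) =
      maximalIdeal (R ⧸ Ideal.span {F}) := by
    rw [Ideal.map_span, Finset.coe_image, ← Set.image_comp]
    have : (Ideal.Quotient.mk (Ideal.span {F})) ∘ σ = id := funext hσ
    rw [this, Set.image_id]
    exact hs'
  have hle : maximalIdeal R ≤ Ideal.span (s.image σ : Set R) ⊔ maximalIdeal R • maximalIdeal R := by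
    intro x hx
    have hx' : Ideal.Quotient.mk (Ideal.span {F}) x ∈ maximalIdeal (R ⧸ Ideal.span {F}) := by
      rw [mem_maximalIdeal, mem_nonunits_iff]
      intro hu
      obtain ⟨v, hv⟩ := hu.exists_right_inv
      obtain ⟨y, rfl⟩ := Ideal.Quotient.mk_surjective v
      rw [← map_mul, ← map_one (Ideal.Quotient.mk (Ideal.span {F})), Ideal.Quotient.eq] at hv
      have h2 : Ideal.span {F} ≤ maximalIdeal R := by
        rw [Ideal.span_singleton_le_iff_mem]
        exact Ideal.pow_le_self two_ne_zero hF
      have h3 : (1 : R) ∈ maximalIdeal R := by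
        have := Ideal.sub_mem _ (Ideal.mul_mem_right y _ hx) (h2 hv)
        rwa [sub_sub_cancel] at this
      exact (Ideal.ne_top_iff_one _).1 (maximalIdeal.isMaximal R).ne_top h3
    rw [← hmap, Ideal.mem_map_iff_of_surjective _ Ideal.Quotient.mk_surjective] at hx'
    obtain ⟨y, hy, hxy⟩ := hx'
    have h4 : x - y ∈ Ideal.span {F} := (Ideal.Quotient.eq).1 hxy.symm
    have h5 : x - y ∈ maximalIdeal R • maximalIdeal R := by
      have h6 : Ideal.span {F} ≤ maximalIdeal R • maximalIdeal R := by
        rw [Ideal.span_singleton_le_iff_mem, smul_eq_mul, ← pow_two]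
        exact hF
      exact h6 h4
    have : x = y + (x - y) := by ring
    rw [this]
    exact Submodule.add_mem_sup hy h5
  have hN := Submodule.le_of_le_smul_of_le_jacobson_bot
    ((isNoetherianRing_iff_ideal_fg R).1 inferInstance (maximalIdeal R))
    (IsLocalRing.maximalIdeal_le_jacobson _) hle
  have hge : Ideal.span (s.image σ : Set R) ≤ maximalIdeal R := by
    rw [Ideal.span_le]
    intro x hx
    rw [Finset.coe_image] at hx
    obtain ⟨y, hy, rfl⟩ := hx
    have hy' : y ∈ maximalIdeal (R ⧸ Ideal.span {F}) := by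
      rw [← hs']
      exact Submodule.subset_span hy
    rw [← hσ y, mem_maximalIdeal, mem_nonunits_iff] at hy'
    exact fun hu => hy' (hu.map _)
  have heq : maximalIdeal R = Ideal.span (s.image σ : Set R) := le_antisymm hN hge
  have h7 : (maximalIdeal R).spanFinrank ≤ s.card := by
    rw [heq]
    refine (Submodule.spanFinrank_span_le_ncard_of_finite (Finset.finite_toSet _)).trans ?_
    rw [Set.ncard_coe_finset]
    exact Finset.card_image_le
  have h8 := ringKrullDim_le_spanFinrank_maximalIdeal R
  rw [← hdim, ← h1, ← hs] at h8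
  have h9 : ((s.card + 1 : ℕ) : WithBot ℕ∞) ≤ ((s.card : ℕ) : WithBot ℕ∞) := by
    push_cast
    exact h8.trans (by exact_mod_cast h7)
  have : s.card + 1 ≤ s.card := by exact_mod_cast h9
  omega

end K945.JacHt
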