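import Groth.Agent.STCI.K945.ConeHt
import Groth.Agent.Lefpen.H718.RootNe

/-!
# Roots on a normal cone ring of a complete intersection, exponents prime to the characteristic
-/

set_option autoImplicit false
universe u

open IsLocalRing MvPolynomial

namespace K945.RootNe2

open Groth.Agent.Lefpen.H718.Reg Groth.Agent.Lefpen.H718.ConeCM Groth.Agent.Lefpen.H718.Grade
open Groth.Agent.Lefpen.H718.Frame Groth.Agent.Lefpen.H718.RootAlg Groth.Agent.Lefpen.H718.RootNe
open Groth.Agent.Lefpen.H718

theorem root_ne {k : Type u} [Field k] [IsAlgClosed k] {N d n : ℕ} (g : Fin d → MvPolynomial (Fin (N + 1)) k)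
    {a : Fin d → ℕ} (hh : ∀ i, (g i).IsHomogeneous (a i)) (hg : ∀ i, constantCoeff (g i) = 0)
    (hht : (d : ℕ∞) ≤ (Ideal.span (Set.range g)).height) [hdom : IsDomain (A g)] [hic : IsIntegrallyClosed (A g)]
    (hN : N = n + d) (hn : 2 ≤ n) (l : ℕ) (hl : 0 < l) (hlk : (l : k) ≠ 0)
    (f : A g) (D : ℕ) (hf : Homog g hh D f) (hf0 : f ≠ 0) (h : LocPow g l f) : ∃ w : A g, f = w ^ l := by
  have hmax := isMaximal_irr g hg
  have hpr : (irr g).IsPrime := hmax.isPrime
  let B := Localization.AtPrime (irr g)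
  have hBd : IsDomain B := IsLocalization.isDomain_localization (irr g).primeCompl_le_nonZeroDivisors
  have hBn : IsIntegrallyClosed B :=
    isIntegrallyClosed_of_isLocalization B (irr g).primeCompl (irr g).primeCompl_le_nonZeroDivisors
  have hci : Pi1.IsCompleteIntersection B := ConeHt.isCompleteIntersection_localization g hht (irr g)
  have hdim : ringKrullDim B = ((n + 1 : ℕ) : WithBot ℕ∞) := by
    rw [IsLocalization.AtPrime.ringKrullDim_eq_height (irr g) B, ConeHt.height_irr g hg hht hN]
    rfl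
  have h3 : (3 : WithBot ℕ∞) ≤ ringKrullDim B := by
    rw [hdim]
    have : 3 ≤ n + 1 := by omega
    exact_mod_cast this
  have hP := Groth.Agent.S0272.result B hci h3
  have h2 : (2 : WithBot ℕ∞) ≤ ringKrullDim B := le_trans (by norm_num) h3
  have hlB : IsUnit (l : B) := by
    have h4 : IsUnit (algebraMap (A g) B (algebraMap k (A g) (l : k))) := ((IsUnit.mk0 _ hlk).map _).map _
    simpa using h4
  have hinj : Function.Injective (algebraMap (A g) B) := algebraMap_injective g hh
  have hloc : ∀ q : Ideal B, q.IsPrime → q ≠ maximalIdeal B → ∃ v ∉ q, ∃ h, Pair l (algebraMap (A g) B f) v h := by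
    intro q hq hqm
    have hq' : (q.comap (algebraMap (A g) B)).IsPrime := Ideal.IsPrime.comap _
    have hne : q.comap (algebraMap (A g) B) ≠ irr g := by
      intro he
      apply hqm
      have h4 : (q.comap (algebraMap (A g) B)).map (algebraMap (A g) B) = q :=
        IsLocalization.map_under (irr g).primeCompl B q
      rw [he, Localization.AtPrime.map_eq_maximalIdeal] at h4
      exact h4.symm
    obtain ⟨v, x, y, hv, hy, hxy⟩ := h _ hq' hne
    have hx : x ≠ 0 := by
      rintro rfl
      rw [zero_pow hl.ne', mul_zero] at hxy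
      exact mul_ne_zero hf0 (pow_ne_zero l hy) hxy
    exact ⟨algebraMap (A g) B v, hv, exists_pair hinj f v x y hx hy hxy⟩
  obtain ⟨C, _, _, hC1, hC2, hC3, z, hz⟩ := RootCover.exists_etale B h2 hP hl hlB (algebraMap (A g) B f) hloc
  have hclosed : IsAlgClosed (ResidueField B) := isAlgClosed_residueField g
  obtain ⟨x, hx⟩ := exists_approx z l _ hz (D + 1) (Nat.succ_ne_zero D)
  obtain ⟨y, hy⟩ := (IsLocalization.AtPrime.equivQuotMaximalIdealPow (irr g) B (D + 1)).surjective
    (Ideal.Quotient.mk _ x)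
  obtain ⟨y, rfl⟩ := Ideal.Quotient.mk_surjective y
  have h9 : f - y ^ l ∈ irr g ^ (D + 1) := by
    rw [← Ideal.Quotient.eq_zero_iff_mem]
    apply (IsLocalization.AtPrime.equivQuotMaximalIdealPow (irr g) B (D + 1)).injective
    rw [map_sub, map_pow, map_sub, map_pow, hy, map_zero]
    rw [IsLocalization.AtPrime.equivQuotMaximalIdealPow_apply_mk, ← map_pow, ← map_sub]
    exact Ideal.Quotient.eq_zero_iff_mem.2 hx
  obtain ⟨e, w, -, -, hw⟩ := exists_root g hh f D hf hf0 l (D + 1) (Nat.lt_succ_self D) y h9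
  exact ⟨w, hw⟩

end K945.RootNe2
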